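import Cfsg.Agent.H113.PSU.Rank3_m3
import Cfsg.Agent.H387.VO.Main
import Cfsg.Agent.H852.IMHSThree
import Cfsg.Agent.HN.DoubleCover
import Cfsg.Agent.Prune
set_option linter.all false
prune_inst 0x7f00000000000000000000000000000000000000000000000000000000000000000000000000000000000000000000000000000000000000000000000000000000000000000000000000000000000000003fffffffffffffffffffffffffffbeffbdfbfeffff
open scoped Cfsg.Agent.FastGrp

/-!
# `HS`, `p = 5` : elements of orders 15 and 20 are zeros of the character of degree 77 (helper305, S4987)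
-/

set_option autoImplicit false

namespace Cfsg.Agent.H305.SporHS

open Cfsg Cfsg.Agent.Characters.Core Cfsg.Agent.H690.Spor.RankThree Cfsg.Agent.H690.Spor.RankThree.R3
open Cfsg.Agent.H305.RankVal
open Cfsg.Agent.SporadicA.PermTab Cfsg.Agent.HN.HS100 Cfsg.Agent.HN.SrgHS Cfsg.Agent.H852.IMHS Equiv

/-- adjacency -/
def R (x y : Fin 100) : Prop := ad x y = 1

instance decR : DecidableRel R := fun x y => decEq (ad x y) 1

theorem cardR (x : Fin 100) : Nat.card {y // R x y} = 22 := by
  have h1 := deg x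
  rw [Nat.card_eq_fintype_card, Fintype.card_subtype, Finset.card_filter, ← h1]
  refine Finset.sum_congr rfl fun y _ => ?_
  unfold R
  rcases ad_zero_or_one x y with h | h <;> simp [h]

theorem r3 : R3 Q (Fin 100) R 22 77 := by
  have h := R3.of_orbits (G := Q) (X := Fin 100) trans_Q (a := 0) (b := 2) (c := 1) (by decide) (by decide)
    orbit22 orbit77 (by norm_num) (by simp)
  have h2 : (fun x y : Fin 100 => ∃ g : Q, g • (0 : Fin 100) = x ∧ g • (2 : Fin 100) = y) = R := by
    have hle : ∀ x y : Fin 100, (∃ g : Q, g • (0 : Fin 100) = x ∧ g • (2 : Fin 100) = y) → R x y := by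
      rintro x y ⟨g, rfl, rfl⟩
      show ad ((g : Perm (Fin 100)) 0) ((g : Perm (Fin 100)) 2) = 1
      rw [ad_map_Q g.2]
      decide +kernel
    funext x y
    refine propext ⟨hle x y, fun hR => ?_⟩
    have h3 : {y | ∃ g : Q, g • (0 : Fin 100) = x ∧ g • (2 : Fin 100) = y} = {y | R x y} := by
      refine Set.eq_of_subset_of_ncard_le (fun y hy => hle x y hy) ?_ (Set.toFinite _)
      rw [← Nat.card_coe_set_eq, ← Nat.card_coe_set_eq]
      exact (cardR x).le.trans (h.cardk x).ge
    have h4 : y ∈ {y | R x y} := hR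
    rw [← h3] at h4
    exact h4
  rw [h2] at h
  exact h

theorem exists_77 : ∃ χ : IrrCharacter Q, ∀ g : Q, (10 : ℂ) * (χ : Q → ℂ) g =
    (Nat.card {x : Fin 100 // ad x ((g : Perm (Fin 100)) x) = 1} : ℂ) +
      8 * (Nat.card {x : Fin 100 // (g : Perm (Fin 100)) x = x} : ℂ) - 30 := by
  obtain ⟨χ, hχ⟩ := exists_char r3 (a := 0) (b := 6) (r := 2) (s := -8) (by
    intro x y
    have h := srg x y
    have h1 : ∀ z, adj R x z * adj R z y = ((ad x z * ad y z : ℕ) : ℂ) := by
      intro z
      rw [ad_symm y z]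
      unfold adj R
      rcases ad_zero_or_one x z with h1 | h1 <;> rcases ad_zero_or_one z y with h2 | h2 <;> simp [h1, h2]
    have h2 : adj R x y = ((ad x y : ℕ) : ℂ) := by
      unfold adj R
      rcases ad_zero_or_one x y with h1 | h1 <;> simp [h1]
    rw [Finset.sum_congr rfl fun z _ => h1 z, h2, ← Nat.cast_sum]
    have h3 : ((∑ w, ad x w * ad y w + 6 * ad x y : ℕ) : ℂ) = ((if y = x then 22 else 6 : ℕ) : ℂ) := by
      rw [h]
    push_cast at h3 ⊢
    unfold dia
    by_cases hxy : x = y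
    · subst hxy
      rw [if_pos rfl] at h3 ⊢
      linear_combination h3
    · rw [if_neg (Ne.symm hxy)] at h3
      rw [if_neg hxy]
      linear_combination h3) (by norm_num) (by norm_num) (by norm_num) (by norm_num) (by norm_num)
  refine ⟨χ, fun g => ?_⟩
  have h1 := hχ g
  have h2 : Nat.card {x : Fin 100 // ad x ((g : Perm (Fin 100)) x) = 1} = Nat.card {x // R x (g • x)} := rfl
  have h3 : Nat.card {x : Fin 100 // (g : Perm (Fin 100)) x = x} = Nat.card (MulAction.fixedBy (Fin 100) g) := rfl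
  rw [h2, h3]
  push_cast at h1
  linear_combination h1

/-- The number of points moved to a neighbour. -/
def nA (p : Perm (Fin 100)) : ℕ := ((Finset.univ : Finset (Fin 100)).filter fun x => ad x (p x) = 1).card

/-- The number of fixed points. -/
def nF (p : Perm (Fin 100)) : ℕ := ((Finset.univ : Finset (Fin 100)).filter fun x => p x = x).card

theorem nA_conj {p : Perm (Fin 100)} (hp : p ∈ autG 100 adjA) (q : Perm (Fin 100)) : nA (p * q * p⁻¹) = nA q := by
  symm
  refine Finset.card_bij (fun x _ => p x) ?_ (fun _ _ _ _ h => p.injective h) ?_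
  · intro x hx
    rw [Finset.mem_filter] at hx ⊢
    refine ⟨Finset.mem_univ _, ?_⟩
    have h1 : (p * q * p⁻¹) (p x) = p (q x) := by simp
    rw [h1, ad_map hp]
    exact hx.2
  · intro y hy
    rw [Finset.mem_filter] at hy
    refine ⟨p⁻¹ y, ?_, by simp⟩
    rw [Finset.mem_filter]
    refine ⟨Finset.mem_univ _, ?_⟩
    have h1 : (p * q * p⁻¹) y = p (q (p⁻¹ y)) := by simp
    have h2 := hy.2
    rw [h1] at h2
    have h3 : ad (p (p⁻¹ y)) (p (q (p⁻¹ y))) = 1 := by
      have h4 : p (p⁻¹ y) = y := by simp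
      rw [h4]
      exact h2
    rwa [ad_map hp] at h3

theorem nF_conj (p q : Perm (Fin 100)) : nF (p * q * p⁻¹) = nF q := by
  symm
  refine Finset.card_bij (fun x _ => p x) ?_ (fun _ _ _ _ h => p.injective h) ?_
  · intro x hx
    rw [Finset.mem_filter] at hx ⊢
    refine ⟨Finset.mem_univ _, ?_⟩
    have h1 : (p * q * p⁻¹) (p x) = p (q x) := by simp
    rw [h1, hx.2]
  · intro y hy
    rw [Finset.mem_filter] at hy
    refine ⟨p⁻¹ y, ?_, by simp⟩
    rw [Finset.mem_filter]
    refine ⟨Finset.mem_univ _, ?_⟩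
    have h1 : (p * q * p⁻¹) y = p (q (p⁻¹ y)) := by simp
    have h2 := hy.2
    rw [h1] at h2
    have h3 : p⁻¹ y = q (p⁻¹ y) := by
      rw [Perm.inv_eq_iff_eq]
      exact h2.symm
    exact h3.symm

/-- **The criterion.** -/
theorem vz_of {g : Q} (h : nA g + 8 * nF g = 30) : H713.VZ Q g := by
  obtain ⟨χ, hχ⟩ := exists_77
  refine ⟨χ, fun α => ?_⟩
  obtain ⟨p, hp, hpq⟩ := HN.AutHS.exists_perm α
  have h1 := hχ (α g)
  have hA : Nat.card {x : Fin 100 // ad x (((α g : Q) : Perm (Fin 100)) x) = 1} = nA g := by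
    rw [hpq g, ← nA_conj hp g, nA, Nat.card_eq_fintype_card, Fintype.card_subtype]
  have hF : Nat.card {x : Fin 100 // ((α g : Q) : Perm (Fin 100)) x = x} = nF g := by
    rw [hpq g, ← nF_conj p g, nF, Nat.card_eq_fintype_card, Fintype.card_subtype]
  rw [hA, hF] at h1
  have h2 : ((nA (g : Perm (Fin 100)) + 8 * nF (g : Perm (Fin 100)) : ℕ) : ℂ) = ((30 : ℕ) : ℂ) := by rw [h]
  push_cast at h2
  have h3 : (10 : ℂ) * (χ : Q → ℂ) (α g) = 0 := by
    rw [h1]
    linear_combination h2
  exact (mul_eq_zero.1 h3).resolve_left (by norm_num)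

theorem pow_ev {L : List ℕ} {g : Q} (hg : ∀ i : Fin 100, ((g : Perm (Fin 100)) i : ℕ) = ev L i) (k : ℕ) (i : Fin 100) :
    (((g ^ k : Q) : Perm (Fin 100)) i : ℕ) = (ev L)^[k] i := by
  induction k with
  | zero => rfl
  | succ k ih =>
    rw [pow_succ', Function.iterate_succ_apply', ← ih]
    exact hg _

/-- all checks for a word -/
theorem of_word (L : List ℕ) (hL : ∀ P ∈ L, InG Q P) (n : ℕ) (hn : 0 < n) (a f : ℕ) (haf : a + 8 * f = 30)
    (h1 : allB (fun i => Nat.beq ((ev L)^[n] i) i) 100 = true)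
    (h2 : ∀ p ∈ n.primeFactors, allB (fun i => Nat.beq ((ev L)^[n / p] i) i) 100 = false)
    (h3 : cntB (fun i => Nat.beq (bitM 100 adjA i (ev L i)) 1) 100 a = true)
    (h4 : cntB (fun i => Nat.beq (ev L i) i) 100 f = true) : ∃ g : Q, orderOf g = n ∧ H713.VZ Q g := by
  obtain ⟨g, hg, hgi⟩ := exists_ev (G := Q) L hL
  obtain ⟨y, hy⟩ : ∃ y : Q, y = ⟨g, hg⟩ := ⟨_, rfl⟩
  have hyi : ∀ i : Fin 100, ((y : Perm (Fin 100)) i : ℕ) = ev L i := by rw [hy]; exact hgi
  refine ⟨y, ?_, vz_of ?_⟩
  · refine orderOf_eq_of_pow_and_pow_div_prime hn ?_ ?_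
    · apply Subtype.ext
      refine Equiv.ext fun i => Fin.ext ?_
      rw [pow_ev hyi]
      exact Nat.eq_of_beq_eq_true ((allB_iff _ _).1 h1 i i.2)
    · intro p hp hpn he
      have h5 := h2 p (Nat.mem_primeFactors.2 ⟨hp, hpn, hn.ne'⟩)
      have h6 : allB (fun i => Nat.beq ((ev L)^[n / p] i) i) 100 = true := by
        rw [allB_iff]
        intro i hi
        have := pow_ev hyi (n / p) ⟨i, hi⟩
        rw [he] at this
        rw [← this]
        exact Nat.beq_refl i
      rw [h5] at h6
      exact absurd h6 (by decide)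
  · have h5 := card_fin_of_cntB _ _ _ h3
    have h6 := card_fin_of_cntB _ _ _ h4
    have h7 : nA (y : Perm (Fin 100)) = a := by
      rw [← h5, nA]
      congr 1
      refine Finset.filter_congr fun i _ => ?_
      rw [Nat.beq_eq, ← hyi]
      rfl
    have h8 : nF (y : Perm (Fin 100)) = f := by
      rw [← h6, nF]
      congr 1
      refine Finset.filter_congr fun i _ => ?_
      rw [Nat.beq_eq, ← hyi, Fin.ext_iff]
    rw [h7, h8, haf]

theorem exists_15 : ∃ g : Q, orderOf g = 15 ∧ H713.VZ Q g :=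
  of_word [tX, tY, tY, tY, tY, tW, tY, tW] (fun P hP => mem3 inX inY inW P (by
    simp only [List.mem_cons, List.not_mem_nil, or_false] at hP ⊢; tauto)) 15 (by norm_num) 30 0 (by norm_num)
    (by decide +kernel) (by
      have : Nat.primeFactors 15 = {3, 5} := by decide +kernel
      rw [this]
      intro p hp
      simp only [Finset.mem_insert, Finset.mem_singleton] at hp
      rcases hp with rfl | rfl
      · exact (by decide +kernel)
      · exact (by decide +kernel)) (by decide +kernel) (by decide +kernel)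

theorem exists_20 : ∃ g : Q, orderOf g = 20 ∧ H713.VZ Q g :=
  of_word [tX, tY, tY, tW, tY] (fun P hP => mem3 inX inY inW P (by
    simp only [List.mem_cons, List.not_mem_nil, or_false] at hP ⊢; tauto)) 20 (by norm_num) 30 0 (by norm_num)
    (by decide +kernel) (by
      have : Nat.primeFactors 20 = {2, 5} := by decide +kernel
      rw [this]
      intro p hp
      simp only [Finset.mem_insert, Finset.mem_singleton] at hp
      rcases hp with rfl | rfl
      · exact (by decide +kernel)
      · exact (by decide +kernel)) (by decide +kernel) (by decide +kernel)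

/-- **S4987, sporadic row HS, `p = 5`.** -/
theorem two_hs_p {K : Type*} [Group K] (h : Spor.IsoHS K) : H387.VO.TwoVan 5 K := by
  obtain ⟨e⟩ := h
  obtain ⟨⟨f⟩, -⟩ := HN.AutHS.nonempty_Q
  obtain ⟨x, hx, hvx⟩ := exists_15
  obtain ⟨y, hy, hvy⟩ := exists_20
  refine H387.VO.TwoVan.mulEquiv ?_ (f.trans e.symm)
  exact H387.VO.TwoVan.of_order (by rw [hx]; norm_num) (by rw [hy]; norm_num) hvx hvy (by rw [hx, hy]; norm_num)

end Cfsg.Agent.H305.SporHS

private theorem dce_cd67bbe1f5e8 : _root_.True := by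
  try have : _root_.True := by simp only [_root_.Cfsg.Agent.H305.SporHS.nF.eq_1]
  try have : _root_.True := by simp only [_root_.Cfsg.Agent.H305.SporHS.nA.eq_1]
  exact _root_.True.intro
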