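import Cfsg.Agent.H940.EngData
import Cfsg.Agent.H715.Fpr.Row4_m3
import Cfsg.Agent.KFacts.J2.Facts
import Cfsg.Agent.J2Type.FiveFus
import Cfsg.Agent.J2Type.ThreeF
import Cfsg.Agent.S1624
import Cfsg.Agent.S1620
import Cfsg.Agent.H305.SepJ1
import Cfsg.Agent.H256.Sep.FiData
import Cfsg.Agent.FastGrp
import Cfsg.Agent.Prune
set_option linter.all false
prune_inst 0x7f00000000000000000000000000000000000000000000000000000000000000000000000000000000000000000000000000000000000000000000000000000000000000000000000000000000000000003fffffffffffffffffffffffffffbeffbdffbfffff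
open scoped Cfsg.Agent.FastGrp

-- part: H305/SepJ2
section
/-!
# Row `J2` of S5906/S5907 (helper305)

The normalizers of the Sylow subgroups for 5, 7, the normalizer of the centre of a Sylow 3-subgroup, `U₃(3)`, the
centralizer of a 2-central involution.
-/

set_option autoImplicit false
set_option linter.style.haveILetI false

namespace Cfsg.Agent.H305.SepJ2

open Subgroup Cfsg.Agent.OrdDiv Cfsg.Agent.H940 Cfsg.Agent.H940.Eng Cfsg.Agent.H940.Eng.D
open Cfsg.Agent.H940.MaxCls

/-! ### overgroups of the normalizer of a self-centralizing subgroup of order 25 -/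

/-- an element of order 3 centralizes the subgroups of order 5 which it normalizes -/
theorem cent5 {G : Type*} [Group G] {M : Subgroup G} (hM : Nat.card M = 5) {y : G} (hy : y ^ 3 = 1)
    (hyM : ∀ x ∈ M, y * x * y⁻¹ ∈ M) : ∀ x ∈ M, y * x = x * y := by
  obtain ⟨g, hg, rfl⟩ := SepJ1.eq_zpowers Nat.prime_five hM
  have hy' : y * y * y = 1 := by rw [← hy]; simp only [pow_succ, pow_zero, one_mul]
  have hgf : IsOfFinOrder g := orderOf_pos_iff.1 (by rw [hg]; norm_num)
  obtain ⟨k, hk⟩ : ∃ k : ℕ, y * g * y⁻¹ = g ^ k := by
    obtain ⟨k, hk⟩ := hgf.mem_powers_iff_mem_zpowers.2 (hyM g (mem_zpowers g))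
    exact ⟨k, hk.symm⟩
  have h1 : ∀ m : ℕ, y * g ^ m * y⁻¹ = g ^ (k * m) := by
    intro m
    rw [← conj_pow, hk, ← pow_mul]
  have h2 : g ^ (k * (k * k)) = g := by
    calc g ^ (k * (k * k)) = y * (y * (y * g * y⁻¹) * y⁻¹) * y⁻¹ := by rw [hk, h1, h1]
      _ = (y * y * y) * g * (y * y * y)⁻¹ := by simp only [mul_inv_rev, mul_assoc]
      _ = g := by rw [hy']; group
  have h3 : k * (k * k) % 5 = 1 % 5 := by
    have h5 : g ^ (k * (k * k)) = g ^ 1 := by rw [h2, pow_one]
    rw [pow_inj_mod, hg] at h5
    exact h5
  have h4 : k % 5 = 1 := by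
    have h5 : (k % 5) * ((k % 5) * (k % 5)) % 5 = 1 := by
      rw [show 1 = 1 % 5 by norm_num, ← h3]
      simp [Nat.mul_mod]
    have h6 : k % 5 < 5 := Nat.mod_lt _ (by norm_num)
    interval_cases hk5 : k % 5 <;> simp_all only [_root_.Nat.card_zpowers, _root_.Nat.one_mod, _root_.MulZeroClass.mul_zero, _root_.Nat.zero_mod, _root_.zero_ne_one, _root_.mul_one, _root_.Nat.one_lt_ofNat, _root_.Nat.reduceMul, _root_.Nat.reduceMod, _root_.OfNat.ofNat_ne_one]
  have h5 : y * g * y⁻¹ = g := by
    rw [hk, ← pow_mod_orderOf, hg, h4, pow_one]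
  have h6 : Commute y g := by
    have : y * g = g * y := by rw [← mul_inv_eq_iff_eq_mul]; exact h5
    exact this
  intro x hx
  obtain ⟨m, rfl⟩ := mem_zpowers_iff.1 hx
  exact (h6.zpow_right m).eq

/-- an element of order 3 which normalizes a self-centralizing subgroup `P` of order 25 normalizes no
subgroup of order 5 of `P` -/
theorem irred {G : Type*} [Group G] {P L : Subgroup G} (hP : Nat.card P = 25)
    (hCP : centralizer (P : Set G) = P) {y : G} (hy : orderOf y = 3) (hyP : ∀ x ∈ P, y * x * y⁻¹ ∈ P)
    (hLP : L ≤ P) (hL : Nat.card L = 5) (hyL : ∀ x ∈ L, y * x * y⁻¹ ∈ L) : False := by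
  haveI := Fact.mk Nat.prime_five
  haveI : Finite P := Nat.finite_of_card_ne_zero (by rw [hP]; norm_num)
  have hy3 : y ^ 3 = 1 := by rw [← hy, pow_orderOf_eq_one]
  have hy' : y * y * y = 1 := by rw [← hy3]; simp only [pow_succ, pow_zero, one_mul]
  have hab : ∀ a ∈ P, ∀ b ∈ P, a * b = b * a := by
    intro a ha b hb
    rw [← hCP] at hb
    exact mem_centralizer_iff.1 hb a ha
  let F : P →* G :=
    { toFun := fun u => y * u * y⁻¹ * (u : G)⁻¹
      map_one' := by simp
      map_mul' := by
        intro u v
        have h1 : (u : G)⁻¹ * (y * v * y⁻¹) = (y * v * y⁻¹) * (u : G)⁻¹ :=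
          hab _ (P.inv_mem u.2) _ (hyP v v.2)
        have h2 : (u : G)⁻¹ * (v : G)⁻¹ = (v : G)⁻¹ * (u : G)⁻¹ := hab _ (P.inv_mem u.2) _ (P.inv_mem v.2)
        show y * ((u * v : P) : G) * y⁻¹ * ((u * v : P) : G)⁻¹ = (y * u * y⁻¹ * (u : G)⁻¹) * (y * v * y⁻¹ * (v : G)⁻¹)
        calc y * ((u * v : P) : G) * y⁻¹ * ((u * v : P) : G)⁻¹
            = (y * u * y⁻¹) * ((y * v * y⁻¹) * ((v : G)⁻¹ * (u : G)⁻¹)) := by push_cast; group
          _ = (y * u * y⁻¹) * ((y * v * y⁻¹) * ((u : G)⁻¹ * (v : G)⁻¹)) := by rw [h2]
          _ = (y * u * y⁻¹) * (((y * v * y⁻¹) * (u : G)⁻¹) * (v : G)⁻¹) := by group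
          _ = (y * u * y⁻¹) * (((u : G)⁻¹ * (y * v * y⁻¹)) * (v : G)⁻¹) := by rw [h1]
          _ = _ := by group }
  have hF : ∀ u : P, F u = y * u * y⁻¹ * (u : G)⁻¹ := fun u => rfl
  have hker : L.subgroupOf P ≤ F.ker := by
    intro u hu
    rw [mem_subgroupOf] at hu
    rw [MonoidHom.mem_ker, hF, mul_inv_eq_one, mul_inv_eq_iff_eq_mul]
    exact cent5 hL hy3 hyL u hu
  have h5 : 5 ∣ Nat.card F.ker := by
    rw [← hL, ← Nat.card_congr (subgroupOfEquivOfLe hLP).toEquiv]
    exact card_dvd_of_le hker
  have h25 : Nat.card F.ker * Nat.card F.range = 25 := by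
    rw [← hP, card_eq_card_quotient_mul_card_subgroup F.ker, Nat.card_congr (QuotientGroup.quotientKerEquivRange F).toEquiv]
    ring
  have hne : Nat.card F.range ≠ 1 := by
    intro h1
    have h2 : ∀ u ∈ P, y * u = u * y := by
      intro u hu
      have h3 : F ⟨u, hu⟩ ∈ F.range := ⟨_, rfl⟩
      have h4 : F.range = ⊥ := card_eq_one.1 h1
      rw [h4, mem_bot, hF, mul_inv_eq_one, mul_inv_eq_iff_eq_mul] at h3
      exact h3
    have h3 : y ∈ P := by
      rw [← hCP, mem_centralizer_iff]
      intro u hu
      exact (h2 u hu).symm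
    have h4 : orderOf (⟨y, h3⟩ : P) ∣ 25 := by rw [← hP]; exact _root_.orderOf_dvd_natCard _
    rw [orderOf_mk, hy] at h4
    norm_num at h4
  have hr5 : Nat.card F.range = 5 := by
    obtain ⟨c, hc⟩ := h5
    rw [hc] at h25
    have h6 : c * Nat.card F.range = 5 := by
      have : 5 * (c * Nat.card F.range) = 5 * 5 := by rw [← mul_assoc, h25]
      omega
    have h7 : Nat.card F.range ∣ 5 := Dvd.intro_left _ h6
    exact ((Nat.dvd_prime Nat.prime_five).1 h7).resolve_left hne
  have hrP : ∀ x ∈ F.range, x ∈ P := by
    rintro _ ⟨u, rfl⟩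
    rw [hF]
    exact P.mul_mem (hyP u u.2) (P.inv_mem u.2)
  have hyr : ∀ x ∈ F.range, y * x * y⁻¹ ∈ F.range := by
    rintro _ ⟨u, rfl⟩
    refine ⟨⟨y * u * y⁻¹, hyP u u.2⟩, ?_⟩
    rw [hF, hF]
    group
  have hc := cent5 hr5 hy3 hyr
  -- the range is trivial
  have hall : ∀ x ∈ F.range, x = 1 := by
    rintro x ⟨u, hu⟩
    have hx := hc x ⟨u, hu⟩
    rw [hF] at hu
    have h1 : y * u * y⁻¹ = x * u := by rw [← hu]; group
    have hyx : y * x * y⁻¹ = x := by rw [hx]; group
    have h2 : (y * y * y) * u * (y * y * y)⁻¹ = x * x * x * u := by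
      calc (y * y * y) * u * (y * y * y)⁻¹ = y * (y * (y * u * y⁻¹) * y⁻¹) * y⁻¹ := by
            simp only [mul_inv_rev, mul_assoc]
        _ = y * (y * (x * u) * y⁻¹) * y⁻¹ := by rw [h1]
        _ = (y * (y * x * y⁻¹) * y⁻¹) * (y * (y * u * y⁻¹) * y⁻¹) := by group
        _ = x * (y * (x * u) * y⁻¹) := by rw [hyx, hyx, h1]
        _ = x * ((y * x * y⁻¹) * (y * u * y⁻¹)) := by group
        _ = x * x * x * u := by rw [hyx, h1]; simp only [mul_assoc]
    rw [hy', one_mul, inv_one, mul_one] at h2
    have h3 : x * x * x = 1 := by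
      have : x * x * x * (u : G) = 1 * u := by rw [← h2, one_mul]
      exact mul_right_cancel this
    have h4 : x ^ 5 = 1 := by
      have h6 : (⟨x, ⟨u, by rw [hF]; exact hu⟩⟩ : F.range) ^ 5 = 1 := by
        rw [← hr5]; exact pow_card_eq_one'
      exact congrArg Subtype.val h6
    calc x = (x * x * x) * (x * x * x) * (x ^ 5)⁻¹ := by simp only [pow_succ, pow_zero, one_mul]; group
      _ = 1 := by rw [h3, h4]; group
  have hbot : F.range = ⊥ := by
    rw [eq_bot_iff_forall]
    exact hall
  exact hne (by rw [hbot, card_bot])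

/-- fixed points of a Sylow subgroup on the cosets of a subgroup containing its normalizer -/
theorem eq_coe_of_fixed {G : Type*} [Group G] [Finite G] {p : ℕ} [Fact p.Prime] (P : Sylow p G) {K : Subgroup G}
    (hK : normalizer ((P : Subgroup G) : Set G) ≤ K) {g : G} (hg : ∀ x ∈ (P : Subgroup G), g⁻¹ * x * g ∈ K) : g ∈ K := by
  have h1 : (P : Subgroup G) ≤ K := le_normalizer.trans hK
  have h2 : ((g⁻¹ • P : Sylow p G) : Subgroup G) ≤ K := by
    rintro _ ⟨z, hz, rfl⟩
    have := hg z hz
    simpa only [_root_.map_inv, _root_.MulDistribMulAction.toMonoidEnd_apply, _root_.MulDistribMulAction.toMonoidHom_apply, _root_.MulAut.smul_def, _root_.MulAut.inv_apply, _root_.MulAut.conj_symm_apply] using this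
  obtain ⟨h, hh⟩ := MulAction.exists_smul_eq K ((g⁻¹ • P).subtype h2) (P.subtype h1)
  simp_rw [Sylow.smul_subtype, Subgroup.smul_def, smul_smul] at hh
  have h3 := hK (Sylow.smul_eq_iff_mem_normalizer.mp (Sylow.subtype_injective hh))
  have h4 : g⁻¹ ∈ K := by
    have := K.mul_mem (K.inv_mem h.2) h3
    simpa using this
  simpa using K.inv_mem h4

/-- a subgroup of index less than 25 which contains the normalizer of a self-centralizing Sylow 5-subgroup of order 25 -/
theorem index_mod_three {G : Type*} [Group G] [Finite G] [Fact (Nat.Prime 5)] (P : Sylow 5 G)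
    (hP : Nat.card (P : Subgroup G) = 25)
    (hCP : centralizer ((P : Subgroup G) : Set G) = P) (h3 : 3 ∣ Nat.card (normalizer ((P : Subgroup G) : Set G)))
    {K : Subgroup G} (hK : normalizer ((P : Subgroup G) : Set G) ≤ K) (hidx : K.index < 25) : K.index % 3 = 1 := by
  haveI := Fact.mk Nat.prime_three
  obtain ⟨y, hy⟩ := exists_prime_orderOf_dvd_card' 3 h3
  have hy' : orderOf (y : G) = 3 := by rw [Subgroup.orderOf_coe, hy]
  have hyP : ∀ x ∈ (P : Subgroup G), (y : G) * x * (y : G)⁻¹ ∈ (P : Subgroup G) := fun x hx =>
    (mem_normalizer_iff.1 y.2 x).1 hx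
  have hpg : IsPGroup 3 (zpowers (y : G)) := IsPGroup.of_card (n := 1) (by rw [Nat.card_zpowers, hy', pow_one])
  have h1 := hpg.card_modEq_card_fixedPoints (G ⧸ K)
  have h2 : MulAction.fixedPoints (zpowers (y : G)) (G ⧸ K) = {((1 : G) : G ⧸ K)} := by
    ext ω
    rw [Set.mem_singleton_iff]
    constructor
    · intro hω
      obtain ⟨g, rfl⟩ := QuotientGroup.mk_surjective ω
      have hyω : (y : G) • (g : G ⧸ K) = (g : G ⧸ K) := hω ⟨y, mem_zpowers _⟩
      have hyω' : (y : G)⁻¹ • (g : G ⧸ K) = (g : G ⧸ K) := by rw [inv_smul_eq_iff, hyω]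
      have hst : Nat.card (MulAction.orbit (P : Subgroup G) (g : G ⧸ K)) *
          Nat.card (MulAction.stabilizer (P : Subgroup G) (g : G ⧸ K)) = 25 := by
        rw [← hP, Nat.card_congr (MulAction.orbitEquivQuotientStabilizer (P : Subgroup G) (g : G ⧸ K))]
        exact (card_eq_card_quotient_mul_card_subgroup _).symm
      have hle : Nat.card (MulAction.orbit (P : Subgroup G) (g : G ⧸ K)) < 25 := by
        refine lt_of_le_of_lt ?_ hidx
        rw [Subgroup.index]
        exact Nat.card_le_card_of_injective Subtype.val Subtype.val_injective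
      have hdv : Nat.card (MulAction.stabilizer (P : Subgroup G) (g : G ⧸ K)) ∣ 5 ^ 2 := Dvd.intro_left _ hst
      obtain ⟨j, hj, hj'⟩ := (Nat.dvd_prime_pow Nat.prime_five).1 hdv
      set L : Subgroup G := (MulAction.stabilizer (P : Subgroup G) (g : G ⧸ K)).map (P : Subgroup G).subtype with hL
      have hLc : Nat.card L = 5 ^ j := by
        rw [hL, card_map_of_injective (Subgroup.subtype_injective _), hj']
      have hLP : L ≤ (P : Subgroup G) := by
        rintro _ ⟨u, -, rfl⟩
        exact u.2
      have hj0 : j ≠ 0 := by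
        rintro rfl
        rw [hj', pow_zero, mul_one] at hst
        omega
      have memL : ∀ x : G, x ∈ L ↔ x ∈ (P : Subgroup G) ∧ x • (g : G ⧸ K) = (g : G ⧸ K) := by
        intro x
        constructor
        · rintro ⟨u, hu, rfl⟩
          exact ⟨u.2, hu⟩
        · rintro ⟨h4, h5⟩
          exact ⟨⟨x, h4⟩, h5, rfl⟩
      have hj12 : j = 1 ∨ j = 2 := by omega
      rcases hj12 with rfl | rfl
      · exfalso
        refine irred hP hCP hy' hyP hLP (by rw [hLc, pow_one]) ?_
        intro x hx
        obtain ⟨h4, h5⟩ := (memL x).1 hx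
        refine (memL _).2 ⟨hyP x h4, ?_⟩
        rw [mul_smul, mul_smul, hyω', h5, hyω]
      · have hLeq : L = (P : Subgroup G) := eq_of_le_of_card_ge hLP (by rw [hLc, hP]; norm_num)
        have hgK : g ∈ K := by
          refine eq_coe_of_fixed P hK fun x hx => ?_
          rw [← hLeq] at hx
          have h5 := ((memL x).1 hx).2
          rw [MulAction.Quotient.smul_coe, QuotientGroup.eq, smul_eq_mul] at h5
          have h6 := K.inv_mem h5
          have h7 : ((x * g)⁻¹ * g)⁻¹ = g⁻¹ * x * g := by group
          rwa [h7] at h6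
        rw [QuotientGroup.eq]
        simpa using hgK
    · rintro rfl
      rintro ⟨x, hx⟩
      have hxK : x ∈ K := (zpowers_le.2 (hK y.2)) hx
      show x • ((1 : G) : G ⧸ K) = ((1 : G) : G ⧸ K)
      rw [MulAction.Quotient.smul_coe, QuotientGroup.eq, smul_eq_mul]
      simpa using hxK
  rw [h2] at h1
  have h4 : Nat.card ({((1 : G) : G ⧸ K)} : Set (G ⧸ K)) = 1 := by
    rw [Nat.card_coe_set_eq, Set.ncard_singleton]
  rw [h4] at h1
  exact h1

/-! ### fixed points of a Sylow subgroup -/

/-- the normalizer of a Sylow subgroup is transitive on its fixed points -/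
theorem exists_normalizer_smul {G X : Type*} [Group G] [Finite G] [MulAction G X] {p : ℕ} [Fact p.Prime] (P : Sylow p G)
    {a : X} {g : G} (ha : ∀ x ∈ (P : Subgroup G), x • a = a) (hb : ∀ x ∈ (P : Subgroup G), x • (g • a) = g • a) :
    ∃ n ∈ normalizer ((P : Subgroup G) : Set G), n • a = g • a := by
  have h1 : (P : Subgroup G) ≤ MulAction.stabilizer G a := ha
  have h2 : ((g⁻¹ • P : Sylow p G) : Subgroup G) ≤ MulAction.stabilizer G a := by
    rintro _ ⟨z, hz, rfl⟩
    have := hb z hz
    change g⁻¹ * z * g⁻¹⁻¹ ∈ MulAction.stabilizer G a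
    rw [MulAction.mem_stabilizer_iff, inv_inv, mul_smul, mul_smul, this, inv_smul_smul]
  obtain ⟨h, hh⟩ := MulAction.exists_smul_eq (MulAction.stabilizer G a) ((g⁻¹ • P).subtype h2) (P.subtype h1)
  simp_rw [Sylow.smul_subtype, Subgroup.smul_def, smul_smul] at hh
  have h3 := Sylow.smul_eq_iff_mem_normalizer.mp (Sylow.subtype_injective hh)
  refine ⟨((h : G) * g⁻¹)⁻¹, inv_mem h3, ?_⟩
  rw [mul_inv_rev, inv_inv, mul_smul]
  congr 1
  rw [inv_smul_eq_iff]
  exact (MulAction.mem_stabilizer_iff.1 h.2).symm

theorem arith40320 : ∀ s ∈ Finset.range 101, s ∣ 40320 → 40320 / s ∣ 6048 → 2 < s % 7 := by decide +kernel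

/-- no subgroup of order 40320 contains an element of order 7 -/
theorem not40320 {G : Type*} [Group G] [Finite G] (hG : Nat.card G = 604800) {H : Subgroup G} (hH : H.index = 100)
    [Fact (Nat.Prime 7)] (P : Sylow 7 G) (hP : Nat.card (P : Subgroup G) = 7)
    (hN : Nat.card (normalizer ((P : Subgroup G) : Set G)) = 42) {K : Subgroup G} (hK : Nat.card K = 40320)
    (hPK : (P : Subgroup G) ≤ K) : False := by
  have hX : Nat.card (G ⧸ H) = 100 := hH
  have hpg : IsPGroup 7 (P : Subgroup G) := P.2
  have h1 := hpg.card_modEq_card_fixedPoints (G ⧸ H)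
  rw [hX] at h1
  set Fx := MulAction.fixedPoints (P : Subgroup G) (G ⧸ H) with hFx
  have hFne : Nat.card Fx ≠ 0 := by
    intro h0
    rw [h0] at h1
    exact absurd h1 (by decide)
  haveI : Nonempty Fx := by
    by_contra hc
    rw [not_nonempty_iff] at hc
    exact hFne Nat.card_of_isEmpty
  obtain ⟨ω, hω⟩ : ∃ ω : G ⧸ H, ω ∈ Fx := ⟨(Classical.arbitrary Fx : Fx).1, (Classical.arbitrary Fx : Fx).2⟩
  have hfix : ∀ {a : G ⧸ H}, a ∈ Fx → ∀ x ∈ (P : Subgroup G), x • a = a := fun ha x hx => ha ⟨x, hx⟩
  -- at most six fixed points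
  set N := normalizer ((P : Subgroup G) : Set G) with hNdef
  have hsub : Fx ⊆ MulAction.orbit N ω := by
    intro a ha
    obtain ⟨g, rfl⟩ := MulAction.exists_smul_eq G ω a
    obtain ⟨n, hn, hn'⟩ := exists_normalizer_smul P (hfix hω) (hfix ha)
    exact ⟨⟨n, hn⟩, hn'⟩
  have horb : Nat.card (MulAction.orbit N ω) * Nat.card (MulAction.stabilizer N ω) = 42 := by
    rw [← hN, Nat.card_congr (MulAction.orbitEquivQuotientStabilizer N ω)]
    exact (card_eq_card_quotient_mul_card_subgroup _).symm
  have h7 : 7 ∣ Nat.card (MulAction.stabilizer N ω) := by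
    rw [← hP, ← Nat.card_congr (subgroupOfEquivOfLe (le_normalizer (H := (P : Subgroup G)))).toEquiv]
    refine card_dvd_of_le ?_
    intro n hn
    exact hfix hω n hn
  have h6 : Nat.card Fx ≤ 6 := by
    have h2 : Nat.card Fx ≤ Nat.card (MulAction.orbit N ω) := by
      rw [Nat.card_coe_set_eq, Nat.card_coe_set_eq]
      exact Set.ncard_le_ncard hsub (Set.toFinite _)
    obtain ⟨c, hc⟩ := h7
    rw [hc] at horb
    have h3 : Nat.card (MulAction.orbit N ω) * c = 6 := by
      have : 7 * (Nat.card (MulAction.orbit N ω) * c) = 7 * 6 := by rw [← mul_assoc, mul_comm 7, mul_assoc, horb]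
      omega
    have h4 : 0 < c := Nat.pos_of_ne_zero (by rintro rfl; omega)
    nlinarith only [h2, horb, h4]
  have h2 : Nat.card Fx ≤ 2 := by
    have h3 : 100 % 7 = Nat.card Fx % 7 := h1
    omega
  -- the orbit of `ω` under `K`
  have horbK : Nat.card (MulAction.orbit K ω) * Nat.card (MulAction.stabilizer K ω) = 40320 := by
    rw [← hK, Nat.card_congr (MulAction.orbitEquivQuotientStabilizer K ω)]
    exact (card_eq_card_quotient_mul_card_subgroup _).symm
  have hstG : Nat.card (MulAction.stabilizer G ω) = 6048 := by
    have h3 : Nat.card (MulAction.orbit G ω) * Nat.card (MulAction.stabilizer G ω) = 604800 := by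
      rw [← hG, Nat.card_congr (MulAction.orbitEquivQuotientStabilizer G ω)]
      exact (card_eq_card_quotient_mul_card_subgroup _).symm
    have h4 : MulAction.orbit G ω = Set.univ := MulAction.orbit_eq_univ G ω
    rw [h4, Nat.card_coe_set_eq, Set.ncard_univ, hX] at h3
    omega
  have hst : Nat.card (MulAction.stabilizer K ω) ∣ 6048 := by
    rw [← hstG]
    have h3 : (MulAction.stabilizer K ω).map K.subtype ≤ MulAction.stabilizer G ω := by
      rintro _ ⟨u, hu, rfl⟩
      exact hu
    rw [← card_map_of_injective K.subtype_injective]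
    exact card_dvd_of_le h3
  have hle : Nat.card (MulAction.orbit K ω) ≤ 100 := by
    rw [← hX]
    exact Nat.card_le_card_of_injective Subtype.val Subtype.val_injective
  have h0 : 0 < Nat.card (MulAction.orbit K ω) := by
    haveI : Nonempty (MulAction.orbit K ω) := ⟨⟨ω, MulAction.mem_orbit_self _⟩⟩
    exact Nat.card_pos
  have hs := arith40320 (Nat.card (MulAction.orbit K ω)) (Finset.mem_range.2 (by omega)) (Dvd.intro _ horbK) (by
    have : 40320 / Nat.card (MulAction.orbit K ω) = Nat.card (MulAction.stabilizer K ω) := by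
      rw [← horbK]
      exact Nat.mul_div_cancel_left _ h0
    rw [this]
    exact hst)
  -- fixed points of `P` in the orbit
  have hP'c : Nat.card ((P : Subgroup G).subgroupOf K) = 7 := by
    rw [Nat.card_congr (subgroupOfEquivOfLe hPK).toEquiv, hP]
  have hpg' : IsPGroup 7 ((P : Subgroup G).subgroupOf K) := IsPGroup.of_card (n := 1) (by rw [hP'c, pow_one])
  have h3 := hpg'.card_modEq_card_fixedPoints (MulAction.orbit K ω)
  have h4 : Nat.card (MulAction.fixedPoints ((P : Subgroup G).subgroupOf K) (MulAction.orbit K ω)) ≤ Nat.card Fx := by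
    refine Nat.card_le_card_of_injective (fun a => ⟨(a.1 : G ⧸ H), ?_⟩) ?_
    · rintro ⟨x, hx⟩
      have h5 := a.2 ⟨⟨x, hPK hx⟩, mem_subgroupOf.2 hx⟩
      exact congrArg Subtype.val h5
    · intro a b hab
      apply Subtype.ext
      apply Subtype.ext
      exact congrArg (fun t : Fx => (t : G ⧸ H)) hab
  have h5 : Nat.card (MulAction.orbit K ω) % 7 =
    Nat.card (MulAction.fixedPoints ((P : Subgroup G).subgroupOf K) (MulAction.orbit K ω)) % 7 := h3
  have h6 := Nat.mod_le (Nat.card (MulAction.fixedPoints ((P : Subgroup G).subgroupOf K) (MulAction.orbit K ω))) 7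
  omega

/-! ### the point stabilizer -/

theorem orbit_coe_one {G : Type*} [Group G] {H : Subgroup G} {k : G} (hk : k ∈ normalizer (H : Set G)) :
    MulAction.orbit H (k : G ⧸ H) = {(k : G ⧸ H)} := by
  ext a
  rw [Set.mem_singleton_iff]
  constructor
  · rintro ⟨h, rfl⟩
    change ((h : G) * k : G) = (k : G ⧸ H)
    rw [eq_comm, QuotientGroup.eq]
    have h1 := (mem_normalizer_iff''.1 hk h).1 h.2
    have h2 : k⁻¹ * ((h : G) * k) = k⁻¹ * h * k := by group
    rw [h2]
    exact h1
  · rintro rfl
    exact MulAction.mem_orbit_self _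

/-- a rank 3 point stabilizer is self-normalizing -/
theorem normalizer_le {G : Type*} [Group G] [Finite G] {H : Subgroup G} (hH : H.index = 100) {c₁ c₂ : G ⧸ H}
    (h36 : (MulAction.orbit ↥H c₁).ncard = 36) (h63 : (MulAction.orbit ↥H c₂).ncard = 63) :
    normalizer (H : Set G) ≤ H := by
  intro k hk
  by_contra hkH
  have o1 : MulAction.orbit H ((1 : G) : G ⧸ H) = {((1 : G) : G ⧸ H)} := orbit_coe_one (_root_.OneMemClass.one_mem _)
  have o2 := orbit_coe_one hk
  have hne : ((1 : G) : G ⧸ H) ≠ (k : G ⧸ H) := by
    rw [Ne, QuotientGroup.eq]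
    simpa using hkH
  have disj : ∀ a b : G ⧸ H, (MulAction.orbit ↥H a).ncard ≠ (MulAction.orbit ↥H b).ncard →
      Disjoint (MulAction.orbit ↥H a) (MulAction.orbit ↥H b) := by
    intro a b hab
    rcases MulAction.orbit.eq_or_disjoint (G := H) a b with h | h
    · exact absurd (by rw [h]) hab
    · exact h
  have n1 : (MulAction.orbit ↥H ((1 : G) : G ⧸ H)).ncard = 1 := by rw [o1, Set.ncard_singleton]
  have n2 : (MulAction.orbit ↥H (k : G ⧸ H)).ncard = 1 := by rw [o2, Set.ncard_singleton]
  have d12 : Disjoint (MulAction.orbit ↥H ((1 : G) : G ⧸ H)) (MulAction.orbit ↥H (k : G ⧸ H)) := by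
    rw [o1, o2, Set.disjoint_singleton]
    exact hne
  have d1 := disj ((1 : G) : G ⧸ H) c₁ (by rw [n1, h36]; norm_num)
  have d2 := disj ((1 : G) : G ⧸ H) c₂ (by rw [n1, h63]; norm_num)
  have d3 := disj (k : G ⧸ H) c₁ (by rw [n2, h36]; norm_num)
  have d4 := disj (k : G ⧸ H) c₂ (by rw [n2, h63]; norm_num)
  have d5 := disj c₁ c₂ (by rw [h36, h63]; norm_num)
  have hle : (((MulAction.orbit ↥H ((1 : G) : G ⧸ H) ∪ MulAction.orbit ↥H (k : G ⧸ H)) ∪ MulAction.orbit ↥H c₁) ∪
      MulAction.orbit ↥H c₂).ncard ≤ 100 := by
    rw [← hH, Subgroup.index, ← Set.ncard_univ]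
    exact Set.ncard_le_ncard (Set.subset_univ _) (Set.toFinite _)
  rw [Set.ncard_union_eq (by
      rw [Set.disjoint_union_left, Set.disjoint_union_left]
      exact ⟨⟨d2, d4⟩, d5⟩) (Set.toFinite _) (Set.toFinite _),
    Set.ncard_union_eq (by
      rw [Set.disjoint_union_left]
      exact ⟨d1, d3⟩) (Set.toFinite _) (Set.toFinite _),
    Set.ncard_union_eq d12 (Set.toFinite _) (Set.toFinite _), n1, n2, h36, h63] at hle
  norm_num at hle

/-! ### the centre of a Sylow 3-subgroup -/

theorem card_center_cubed {T : Type*} [Group T] {p : ℕ} [Fact p.Prime] (hT : Nat.card T = p ^ 3)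
    (hn : ¬ ∀ a b : T, a * b = b * a) : Nat.card (center T) = p := by
  have hfin : Finite T := Nat.finite_of_card_ne_zero (by rw [hT]; exact pow_ne_zero _ (Fact.out : p.Prime).ne_zero)
  have hp := (Fact.out : p.Prime)
  obtain ⟨k, hk0, hk⟩ := IsPGroup.card_center_eq_prime_pow hT (by norm_num)
  have h1 : Nat.card (T ⧸ center T) * p ^ k = p ^ 3 := by
    rw [← hk, ← hT]
    exact (card_eq_card_quotient_mul_card_subgroup (center T)).symm
  have h2 : p ^ k ∣ p ^ 3 := ⟨_, by rw [← h1, mul_comm]⟩
  have h3 : k ≤ 3 := (Nat.pow_dvd_pow_iff_le_right hp.one_lt).1 h2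
  have h4 : ∀ j, j + k = 3 → Nat.card (T ⧸ center T) = p ^ j := by
    intro j hj
    have h5 : p ^ j * p ^ k = p ^ 3 := by rw [← pow_add, hj]
    exact Nat.eq_of_mul_eq_mul_right (pow_pos hp.pos k) (h1.trans h5.symm)
  have key : IsCyclic (T ⧸ center T) → False := by
    intro hcyc
    have h5 := MonoidHom.isMulCommutative_of_isCyclic_of_ker_le_center (QuotientGroup.mk' (center T))
      (by rw [QuotientGroup.ker_mk'])
    exact hn h5.is_comm.comm
  interval_cases k
  · rw [hk, pow_one]
  · exfalso
    exact key (isCyclic_of_prime_card (p := p) (by rw [h4 1 (by norm_num), pow_one]))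
  · exfalso
    have h5 : Nat.card (T ⧸ center T) = 1 := by rw [h4 0 (by norm_num), pow_zero]
    have h6 : Subsingleton (T ⧸ center T) := (Nat.card_eq_one_iff_unique.1 h5).1
    exact key inferInstance

/-- a central subgroup of order `p` of a non-abelian group of order `p³`: its normalizer contains the normalizer -/
theorem exists_center {G : Type*} [Group G] {p : ℕ} [hp : Fact p.Prime] {P : Subgroup G}
    (hP : Nat.card P = p ^ 3) (hn : ¬ ∀ a b : P, a * b = b * a) : ∃ c : G, orderOf c = p ∧ c ∈ P ∧ (∀ x ∈ P, x * c = c * x) ∧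
      normalizer (P : Set G) ≤ normalizer ((zpowers c : Subgroup G) : Set G) := by
  have hc := card_center_cubed hP hn
  set Z : Subgroup G := (center P).map P.subtype with hZ
  have hZc : Nat.card Z = p := by rw [hZ, card_map_of_injective P.subtype_injective, hc]
  obtain ⟨c, hco, hZe⟩ := SepJ1.eq_zpowers hp.out hZc
  have hcZ : c ∈ Z := by rw [hZe]; exact mem_zpowers c
  have memZ : ∀ z : G, z ∈ Z ↔ z ∈ P ∧ ∀ x ∈ P, x * z = z * x := by
    intro z
    constructor
    · rintro ⟨w, hw, rfl⟩
      refine ⟨w.2, fun x hx => ?_⟩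
      exact congrArg Subtype.val (mem_center_iff.1 hw ⟨x, hx⟩)
    · rintro ⟨h1, h2⟩
      refine ⟨⟨z, h1⟩, ?_, rfl⟩
      rw [SetLike.mem_coe, mem_center_iff]
      intro x
      exact Subtype.ext (h2 x x.2)
  refine ⟨c, hco, ((memZ c).1 hcZ).1, ((memZ c).1 hcZ).2, ?_⟩
  rw [← hZe]
  have key : ∀ n ∈ normalizer (P : Set G), ∀ z ∈ Z, n * z * n⁻¹ ∈ Z := by
    intro n hn' z hz
    obtain ⟨h1, h2⟩ := (memZ z).1 hz
    refine (memZ _).2 ⟨(mem_normalizer_iff.1 hn' z).1 h1, fun x hx => ?_⟩
    have h3 : n⁻¹ * x * n ∈ P := (mem_normalizer_iff''.1 hn' x).1 hx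
    have h4 := h2 _ h3
    calc x * (n * z * n⁻¹) = n * ((n⁻¹ * x * n) * z) * n⁻¹ := by group
      _ = n * (z * (n⁻¹ * x * n)) * n⁻¹ := by rw [h4]
      _ = n * z * n⁻¹ * x := by group
  intro n hn'
  rw [mem_normalizer_iff]
  intro z
  constructor
  · exact key n hn' z
  · intro hz
    have h5 := key n⁻¹ (inv_mem hn') _ hz
    have h6 : n⁻¹ * (n * z * n⁻¹) * n⁻¹⁻¹ = z := by group
    rwa [h6] at h5

/-! ### the row -/

abbrev G : Type := Cfsg.Spor.J2

def loc : List LD := [⟨7, 7, [(2, 1), (3, 1), (7, 1)]⟩]

theorem simple : IsSimpleGroup G := Cfsg.Agent.S1620.result.1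
theorem card : Nat.card G = n_j2 := Cfsg.Agent.S1619.result.2.2.2
theorem fin : Finite G := Nat.finite_of_card_ne_zero (by rw [card]; decide)

theorem exists_fus : ∃ t u : G, Cfsg.Agent.J2Type.Base.Fus t u := by
  haveI := fin
  obtain ⟨t, u, Q, v, ρ, D⟩ := Cfsg.Agent.KFacts.J2.Facts.exists_dat_of (X := G) ⟨MulEquiv.refl _⟩
  exact ⟨t, u, D.F⟩

theorem cn7 {R : Subgroup G} (hR : Nat.card R = 7) :
    Nat.card (centralizer (R : Set G)) = 7 ∧ Nat.card (normalizer (R : Set G)) = 42 := by
  haveI := fin
  haveI : Fact (Nat.Prime 7) := ⟨by norm_num⟩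
  obtain ⟨t, u, F⟩ := exists_fus
  obtain ⟨S, hS⟩ := H904.SylOne.exists_sylow (p := 7) hR (by rw [card]; decide +kernel)
  obtain ⟨h1, h2, -⟩ := Cfsg.Agent.J2Type.ThreeF.sylow_seven F S
  rw [← hS, h1]
  refine ⟨?_, h2⟩
  rw [hS]
  exact hR

theorem ctx (B : Base) : Ctx G l_j2 n_j2 o_j2 loc where
  fin := fin
  simple := simple
  card := card
  val := v_j2
  nodup := nd_j2
  ords := ords_j2 B
  loc := by
    haveI := fin
    haveI := simple
    intro ld hld
    simp only [loc, List.mem_cons, List.not_mem_nil, or_false] at hld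
    rcases hld with rfl
    exact loc_of_eq card (by decide +kernel) (by decide +kernel) (by decide +kernel) fun R hR => by
        obtain ⟨h1, h2⟩ := cn7 hR
        rw [h1, h2]; decide

theorem ne_top {A : Subgroup G} {k : ℕ} (h1 : Nat.card A = k) (h2 : (k != n_j2) = true) : A ≠ ⊤ := by
  intro h3
  rw [h3, card_top, card] at h1
  rw [bne_iff_ne] at h2
  exact h2 h1.symm

/-- the subgroup `N(3A)` -/
theorem exists_three' : ∃ c : G, orderOf c = 3 ∧ (∀ x : G, orderOf x = 3 →
    Nat.card (centralizer ({x} : Set G)) = Nat.card (centralizer ({c} : Set G)) → IsConj c x) ∧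
    normalizer ((zpowers c : Subgroup G) : Set G) ≠ ⊤ ∧
    1080 ∣ Nat.card (normalizer ((zpowers c : Subgroup G) : Set G)) ∧
    (∀ p ∈ [3], Full p (normalizer ((zpowers c : Subgroup G) : Set G))) := by
  haveI := fin
  haveI := simple
  haveI := Fact.mk Nat.prime_three
  obtain ⟨t, u, F⟩ := exists_fus
  obtain ⟨a, b, ha, hb, hca, hcb, hcl, P, ⟨x, y, hxy⟩, hN⟩ := Cfsg.Agent.J2Type.ThreeF.main F
  have hP : Nat.card (P : Subgroup G) = 3 ^ 3 :=
    Cfsg.Agent.J2Type.SylowSeven.card_sylow P 3 22400 (by rw [card]; decide) (by norm_num)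
  obtain ⟨c, hc, hcP, hcc, hle⟩ := exists_center hP (fun h => hxy (h x y))
  have h27 : 27 ∣ Nat.card (centralizer ({c} : Set G)) := by
    have h1 : (P : Subgroup G) ≤ centralizer ({c} : Set G) := fun z hz => mem_centralizer_singleton_iff.2 (hcc z hz)
    have h2 := card_dvd_of_le h1
    rw [hP] at h2
    exact h2
  have h1080 : Nat.card (centralizer ({c} : Set G)) = 1080 := by
    rcases hcl c hc with h | h
    · rw [Cfsg.Agent.J2Type.Cent5.card_centralizer_of_isConj h, hca]
    · rw [Cfsg.Agent.J2Type.Cent5.card_centralizer_of_isConj h, hcb] at h27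
      norm_num at h27
  refine ⟨c, hc, ?_, ?_, ?_, ?_⟩
  · intro x hx hcx
    have key : ∀ y : G, orderOf y = 3 → Nat.card (centralizer ({y} : Set G)) = 1080 → IsConj y a := by
      intro y hy hy2
      rcases hcl y hy with h | h
      · exact h
      · rw [Cfsg.Agent.J2Type.Cent5.card_centralizer_of_isConj h, hcb] at hy2
        norm_num at hy2
    exact (key c hc h1080).trans (key x hx (hcx.trans h1080)).symm
  · intro h
    have hn : (zpowers c : Subgroup G).Normal := normalizer_eq_top_iff.1 h
    rcases hn.eq_bot_or_eq_top with h1 | h1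
    · have : Nat.card (zpowers c : Subgroup G) = 1 := by rw [h1, card_bot]
      rw [Nat.card_zpowers, hc] at this
      norm_num at this
    · have : Nat.card (zpowers c : Subgroup G) = n_j2 := by rw [h1, card_top, card]
      rw [Nat.card_zpowers, hc] at this
      exact absurd this (by decide)
  · rw [← h1080, ← SepJ1.cent_zpowers]
    exact card_dvd_of_le (Subgroup.centralizer_le_normalizer _)
  · intro p hp
    rw [List.mem_singleton.1 hp]
    exact (full_normalizer Nat.prime_three P).mono hle

theorem exists_three : ∃ M : Subgroup G, M ≠ ⊤ ∧ 1080 ∣ Nat.card M ∧ (∀ p ∈ [3], Full p M) := by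
  obtain ⟨c, -, -, h1, h2, h3⟩ := exists_three'
  exact ⟨_, h1, h2, h3⟩

/-- the row `J2` -/
theorem five (B : Base) : Sep 5 G := by
  have c := ctx B
  haveI := c.fin
  haveI := c.simple
  have hc := card
  haveI := Fact.mk Nat.prime_five
  haveI : Fact (Nat.Prime 7) := ⟨by norm_num⟩
  obtain ⟨t, u, F⟩ := exists_fus
  obtain ⟨P⟩ := (inferInstance : Nonempty (Sylow 5 G))
  obtain ⟨hCP, hP25, hP300, -⟩ := Cfsg.Agent.J2Type.FiveFus.sylow_five F P
  obtain ⟨R7, h7⟩ := exists_card_eq (G := G) (r := 7) (by decide +kernel) (by rw [hc]; decide +kernel)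
  obtain ⟨M, hMt, hM, f3⟩ := exists_three
  obtain ⟨H, hH, -, c₁, c₂, h36, h63⟩ := Cfsg.Agent.S1624.result
  have c7 := (cn7 h7).2
  have cH : Nat.card H = 6048 := by
    have h1 := card_mul_index H
    rw [hH, hc, show n_j2 = 6048 * 100 by decide] at h1
    exact Nat.eq_of_mul_eq_mul_right (by norm_num) h1
  have ct : Nat.card (centralizer ({t} : Set G)) = 1920 := F.cardC
  obtain ⟨S7, hS7⟩ := H904.SylOne.exists_sylow (p := 7) h7 (by rw [card]; decide +kernel)
  have f5 : ∀ p ∈ [5], Full p ((normalizer ((P : Subgroup G) : Set G) :)) := by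
    intro p hp; rw [List.mem_singleton.1 hp]
    exact full_normalizer Nat.prime_five P
  have f7 : ∀ p ∈ [7], Full p (normalizer (R7 : Set G)) := by
    intro p hp; rw [List.mem_singleton.1 hp]
    exact full_of_card hc (by decide +kernel) (by decide +kernel) h7
  have f0 : ∀ {A : Subgroup G}, ∀ p ∈ ([] : List ℕ), Full p A := fun p hp => absurd hp List.not_mem_nil
  -- `N(5²)` and `C(t)`
  have a1 : Apart ((normalizer ((P : Subgroup G) : Set G) :)) (centralizer ({t} : Set G)) := by
    intro g K h1 h2
    have hb' : 1920 ∣ Nat.card K := by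
      rw [← ct, ← MaxCls.card_map_conj g]
      exact card_dvd_of_le (MaxCls.map_conj_le h2)
    rcases c.over (a := 300) (b := 1920) [(3, 2), (7, 1)] [21] [5] 60 (by decide +kernel)
      (hP300.symm.dvd.trans (card_dvd_of_le h1)) hb' (fun p hp => (f5 p hp).mono h1) with h3 | h3
    · exact h3
    · exfalso
      rw [List.mem_singleton] at h3
      have h4 := index_mod_three P hP25 hCP (by rw [hP300]; norm_num) h1 (by rw [h3]; norm_num)
      rw [h3] at h4
      norm_num at h4
  -- `N(7)` and `C(t)`
  have a2 : Apart (normalizer (R7 : Set G)) (centralizer ({t} : Set G)) := by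
    intro g K h1 h2
    have hb' : 1920 ∣ Nat.card K := by
      rw [← ct, ← MaxCls.card_map_conj g]
      exact card_dvd_of_le (MaxCls.map_conj_le h2)
    rcases c.over (a := 42) (b := 1920) [(3, 2), (5, 1)] [15] [7] 60 (by decide +kernel)
      (c7.symm.dvd.trans (card_dvd_of_le h1)) hb' (fun p hp => (f7 p hp).mono h1) with h3 | h3
    · exact h3
    · exfalso
      rw [List.mem_singleton] at h3
      have h4 := card_mul_index K
      rw [h3, hc, show n_j2 = 40320 * 15 by decide] at h4
      have h5 : Nat.card K = 40320 := Nat.eq_of_mul_eq_mul_right (by norm_num) h4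
      refine not40320 (by rw [hc]; decide) hH S7 (by rw [hS7]; exact h7) (by rw [hS7]; exact c7) h5 ?_
      rw [hS7]
      exact le_normalizer.trans h1
  -- `U₃(3)` and `N(7)`
  have a3 : Apart H (normalizer (R7 : Set G)) := by
    intro g K h1 h2
    have hb' : 42 ∣ Nat.card K := by
      rw [← c7, ← MaxCls.card_map_conj g]
      exact card_dvd_of_le (MaxCls.map_conj_le h2)
    rcases c.over (a := 6048) (b := 42) [(2, 2), (5, 2)] [50] [7] 60 (by decide +kernel)
      (cH.symm.dvd.trans (card_dvd_of_le h1)) hb' (fun p hp => (f7 p hp).conj h2) with h3 | h3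
    · exact h3
    · exfalso
      rw [List.mem_singleton] at h3
      have h4 := card_mul_index K
      rw [h3, hc, show n_j2 = 12096 * 50 by decide] at h4
      have h5 : Nat.card K = 12096 := Nat.eq_of_mul_eq_mul_right (by norm_num) h4
      have h6 : (H.subgroupOf K).index = 2 := by
        have h7 := card_mul_index (H.subgroupOf K)
        rw [Nat.card_congr (subgroupOfEquivOfLe h1).toEquiv, cH, h5] at h7
        omega
      have h7 : (H.subgroupOf K).Normal := normal_of_index_eq_two h6
      have h8 : K ≤ normalizer (H : Set G) := by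
        intro k hk
        rw [mem_normalizer_iff]
        intro x
        constructor
        · intro hx
          have := h7.conj_mem ⟨x, h1 hx⟩ (mem_subgroupOf.2 hx) ⟨k, hk⟩
          exact mem_subgroupOf.1 this
        · intro hx
          have h9 := (h7.conj_mem ⟨k * x * k⁻¹, h1 hx⟩ (mem_subgroupOf.2 hx) ⟨k⁻¹, K.inv_mem hk⟩ :)
          have h10 := mem_subgroupOf.1 h9
          have h11 : k⁻¹ * (k * x * k⁻¹) * k⁻¹⁻¹ = x := by group
          change k⁻¹ * (k * x * k⁻¹) * k⁻¹⁻¹ ∈ H at h10
          rwa [h11] at h10
      have h9 := card_dvd_of_le (h8.trans (normalizer_le hH h36 h63))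
      rw [h5, cH] at h9
      norm_num at h9
  exact sep_five (ne_top hP300 (by decide +kernel)) (ne_top c7 (by decide +kernel)) hMt
    (ne_top cH (by decide +kernel)) (ne_top ct (by decide +kernel))
    (c.apart hP300.symm.dvd c7.symm.dvd [(2, 5), (3, 2)] _ _ 60 f5 f7 (by decide +kernel))
    (c.apart hP300.symm.dvd hM [(2, 4), (7, 1)] _ _ 60 f5 f3 (by decide +kernel))
    (c.apart hP300.symm.dvd cH.symm.dvd [(2, 2)] _ _ 60 f5 f0 (by decide +kernel))
    a1
    (c.apart c7.symm.dvd hM [(2, 4), (5, 1)] _ _ 60 f7 f3 (by decide +kernel))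
    a3.symm
    a2
    (c.apart hM cH.symm.dvd [(2, 2), (5, 1)] _ _ 60 f3 f0 (by decide +kernel))
    (c.apart hM ct.symm.dvd [(5, 1), (7, 1)] _ _ 60 f3 f0 (by decide +kernel))
    (c.apart cH.symm.dvd ct.symm.dvd [(5, 1)] _ _ 60 f0 f0 (by decide +kernel))

end Cfsg.Agent.H305.SepJ2
end

-- part: H256/Sep/RowFi24
section
/-!
# Row `Fi24'` of S5906/S5907 (helper256)

The covering argument with the normalizers of the Sylow subgroups for 2, 3, 7, 11, 13, 29 and the subgroup `Fi23`.
-/

set_option autoImplicit false
set_option maxRecDepth 100000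

namespace Cfsg.Agent.H256.Sep.RowFi24

open Subgroup Cfsg.Agent.OrdDiv Cfsg.Agent.H940 Cfsg.Agent.H940.Eng Cfsg.Agent.H940.Eng.D
open Cfsg.Agent.H940.MaxCls Cfsg.Agent.H256.Sep.FiData

abbrev G : Type := Cfsg.Spor.Fi24'

/-- the local data -/
def loc : List LD := [⟨29, 29, [(2, 1), (7, 1), (29, 1)]⟩, ⟨23, 23, [(11, 1), (23, 1)]⟩, ⟨17, 34, [(2, 4), (17, 1)]⟩, ⟨11, 264, [(2, 3), (3, 1), (5, 1), (11, 1)]⟩, ⟨13, 2808, [(2, 3), (3, 3), (13, 1)]⟩]

theorem simple : IsSimpleGroup G := Cfsg.Agent.R08.FiTwentyFour.isFi24'.1
theorem card : Nat.card G = n_fi24p := Cfsg.Agent.R08.FiTwentyFour.isFi24'.2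
theorem fin : Finite G := Nat.finite_of_card_ne_zero (by rw [card]; decide)

theorem map_card {r : ℕ} {R : Subgroup G} (hR : Nat.card R = r) :
    Nat.card (R.map (commutator Cfsg.Spor.Fi24).subtype : Subgroup Cfsg.Spor.Fi24) = r := by
  rw [card_map_of_injective (commutator Cfsg.Spor.Fi24).subtype_injective, hR]

theorem ctx (B : Base) : Ctx G l_fi24p n_fi24p o_fi24p loc where
  fin := fin
  simple := simple
  card := card
  val := v_fi24p
  nodup := nd_fi24p
  ords := ords_fi24p B
  loc := by
    have := fin
    have := simple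
    have : Finite Cfsg.Spor.Fi24 := Cfsg.Agent.R08.FiTwentyFour.finite_Fi24
    have hna : ¬ ∀ a b : G, a * b = b * a :=
      not_comm' card (p := 2) (q := 3) (by decide +kernel) (by decide +kernel) (by decide +kernel) (by decide) (by decide +kernel)
    have hN : ∀ {r C : ℕ}, (∀ {R : Subgroup Cfsg.Spor.Fi24}, Nat.card R = r → Nat.card (centralizer (R : Set Cfsg.Spor.Fi24)) ∣ C) →
        ∀ R : Subgroup G, Nat.card R = r → Nat.card (centralizer (R : Set G)) ∣ C := fun h R hR =>
      (dvd_centralizer_map R).trans (h (map_card hR))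
    intro ld hld
    simp only [loc, List.mem_cons, List.not_mem_nil, or_false] at hld
    rcases hld with rfl | rfl | rfl | rfl | rfl
    · obtain ⟨R, hR⟩ := exists_card_eq (G := G) (r := 29) (by decide +kernel) (by rw [card]; decide +kernel)
      exact loc_of_cent hna card (by decide +kernel) (by decide +kernel) (fC := [(29, 1)]) (by decide +kernel) hR
        ((hN (fun h => (data29 h).1) R hR).trans (by decide +kernel)) (by decide +kernel) (by decide +kernel)
    · obtain ⟨R, hR⟩ := exists_card_eq (G := G) (r := 23) (by decide +kernel) (by rw [card]; decide +kernel)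
      exact loc_of_cent hna card (by decide +kernel) (by decide +kernel) (fC := [(2, 1), (23, 1)]) (by decide +kernel) hR
        ((hN (fun h => (data23 h).1) R hR).trans (by decide +kernel)) (by decide +kernel) (by decide +kernel)
    · obtain ⟨R, hR⟩ := exists_card_eq (G := G) (r := 17) (by decide +kernel) (by rw [card]; decide +kernel)
      exact loc_of_cent hna card (by decide +kernel) (by decide +kernel) (fC := [(2, 1), (17, 1)]) (by decide +kernel) hR
        ((hN (fun h => (data17 h).1) R hR).trans (by decide +kernel)) (by decide +kernel) (by decide +kernel)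
    · obtain ⟨R, hR⟩ := exists_card_eq (G := G) (r := 11) (by decide +kernel) (by rw [card]; decide +kernel)
      exact loc_of_cent hna card (by decide +kernel) (by decide +kernel) (fC := [(2, 3), (3, 1), (11, 1)]) (by decide +kernel) hR
        ((hN (fun h => (data11 h).1) R hR).trans (by decide +kernel)) (by decide +kernel) (by decide +kernel)
    · obtain ⟨R, hR⟩ := exists_card_eq (G := G) (r := 13) (by decide +kernel) (by rw [card]; decide +kernel)
      exact loc_of_cent hna card (by decide +kernel) (by decide +kernel) (fC := [(2, 4), (3, 3), (13, 1)]) (by decide +kernel) hR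
        ((hN (fun h => (data13 h).1) R hR).trans (by decide +kernel)) (by decide +kernel) (by decide +kernel)

/-- the subgroup `Fi23` -/
theorem exists_fi23 : ∃ A : Subgroup G, A ≠ ⊤ ∧ 4089470473293004800 ∣ Nat.card A := by
  have := fin
  have : Finite Cfsg.Spor.Fi24 := Cfsg.Agent.R08.FiTwentyFour.finite_Fi24
  set H : Subgroup Cfsg.Spor.Fi24 := Cfsg.Agent.Fischer.Fi24RepOrb.H
  set L : Subgroup Cfsg.Spor.Fi24 := commutator Cfsg.Spor.Fi24
  have h1 : H.index = 306936 := (Cfsg.Agent.Fischer.Fi24RepOrb.index_and_suborbits Cfsg.Agent.R08.FiTwentyFour.facts.hub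
    Cfsg.Agent.R08.FiTwentyFour.facts.hne).1
  have h2 : L.index = 2 := Cfsg.Agent.R08.FiTwentyFour.index_commutator
  have h3 : (H.subgroupOf L).index * 2 = L.relIndex H * 306936 := by
    have e1 := relIndex_mul_index (inf_le_right : H ⊓ L ≤ L)
    have e2 := relIndex_mul_index (inf_le_left : H ⊓ L ≤ H)
    rw [inf_relIndex_right] at e1
    rw [inf_relIndex_left] at e2
    rw [h2] at e1
    rw [h1] at e2
    change H.relIndex L * 2 = _
    rw [e1, e2]
  have h4 : L.relIndex H ∣ 2 := by
    rw [← h2]
    exact relIndex_dvd_index_of_normal L H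
  have h5 : (H.subgroupOf L).index ∣ 306936 := by
    rcases (Nat.dvd_prime Nat.prime_two).1 h4 with h | h
    · rw [h] at h3
      exact ⟨2, by omega⟩
    · rw [h] at h3
      exact ⟨1, by omega⟩
  refine ⟨H.subgroupOf L, ?_, ?_⟩
  · intro h
    rw [h, index_top] at h3
    rcases (Nat.dvd_prime Nat.prime_two).1 h4 with h6 | h6 <;> rw [h6] at h3 <;> omega
  · have h6 := card_mul_index (H.subgroupOf L)
    obtain ⟨z, hz⟩ := h5
    have h7 : Nat.card G = 4089470473293004800 * 306936 := by rw [card]; decide +kernel
    have h8 : (H.subgroupOf L).index ≠ 0 := index_ne_zero_of_finite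
    refine ⟨z, ?_⟩
    apply Nat.eq_of_mul_eq_mul_right (Nat.pos_of_ne_zero h8)
    rw [h6]
    change Nat.card G = _
    rw [h7, hz]
    ring

def iFi23 : CI := ⟨0, 4089470473293004800, [], [4089470473293004800]⟩

def iP29 : CI := ⟨1, 29, [29], [406, 12180]⟩

def iP11 : CI := ⟨2, 11, [11], [110, 1320, 15840, 26730, 112640, 190080, 320760, 887040, 1351680, 2280960, 3849120, 6495390, 10644480, 16220160, 27371520, 39916800, 46189440, 77944680, 115343360, 127733760, 194641920, 215550720, 244823040, 328458240, 479001600, 554273280, 908328960, 935336160, 1578379770, 2335703040, 2586608640, 3113510400, 3941498880, 5748019200, 6651279360, 9699782400, 10899947520, 11224033920, 18393661440, 18940557240, 20891566080, 28028436480, 31039303680, 37362124800, 40874803200, 47297986560, 52378824960, 68976230400, 79815352320, 116397388800, 134688407040, 174356582400, 220723937280, 448345497600, 490497638400, 567575838720, 628545899520, 756583027200, 957784227840, 1396768665600, 1616260884480, 2092278988800, 2357047123200, 2648687247360, 4469659729920, 5380145971200,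 6810910064640, 7542550794240, 9078996326400, 9932577177600, 11493410734080, 16761223987200, 19395130613760, 28284565478400, 38258815795200, 42368649523200, 53635916759040, 64561751654400, 108947955916800, 119190926131200, 137920928808960, 183849675609600, 339414785740800, 508423794278400, 643631001108480, 774741019852800, 1086127314370560, 1307375471001600, 1655051145707520, 2206196107315200, 2413616254156800, 9296892238233600, 10295581834137600, 15688505652019200, 28963395049881600, 123546982009651200, 188262067824230400, 2259144813890764800]⟩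

def iP13 : CI := ⟨3, 13, [13], [104, 2808, 31200, 39312, 58240, 75816, 404352, 425984, 842400, 1061424, 1572480, 2047032, 4492800, 10917504, 11501568, 22744800, 28658448, 42456960, 55269864, 121305600, 127795200, 152845056, 161021952, 238551040, 294772608, 310542336, 422682624, 436700160, 614109600, 646963200, 773778096, 1146337920, 1492286328, 1656225792, 3170119680, 3275251200, 3450470400, 4126816512, 4347592704, 6440878080, 7958860416, 8384643072, 9057484800, 11412430848, 11790904320, 16580959200, 17468006400, 18402508800, 20892008592, 30951123840, 44718096384, 85593231360, 88431782400, 93162700800, 111424045824, 112086374400, 117385003008, 165072660480, 173903708160, 226385362944, 244552089600, 308135632896, 318354416640, 447685898400, 471636172800, 496867737600, 626053349376, 835680343680, 1207388602368, 1569209241600, 2311017246720, 2387658124800, 2515392921600, 3026332108800, 3169395081216, 4456961832960, 4695400120320, 6112404799488, 6602906419200, 8319662088192, 12734176665600, 13415428915200, 16140437913600, 16903440433152, 32599492263936,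 42368649523200, 62397465661440, 67915608883200, 85573667192832, 126775803248640, 178278473318400, 224630876381184, 362216580710400, 435791823667200, 456392891695104, 1833721439846400, 2206196107315200, 2324223059558400, 3422946687713280, 9779847679180800, 30886745502412800, 62754022608076800]⟩

def iP7 : CI := ⟨4, 343, [7], [343, 2744, 5145, 12348, 17150, 21952, 41160, 55566, 77175, 98784, 137200, 175616, 185220, 250047, 329280, 444528, 617400, 790272, 833490, 1097600, 1404928, 1481760, 2000376, 2634240, 2778300, 3556224, 3750705, 4939200, 6322176, 6667920, 8780800, 9001692, 11239424, 11854080, 12502350, 16003008, 21073920, 22226400, 28449792, 30005640, 39513600, 40507614, 50577408, 53343360, 56260575, 70246400, 72013536, 89915392, 94832640, 100018800, 128024064, 135025380, 168591360, 177811200, 182284263, 227598336, 240045120, 316108800, 324060912, 404619264, 426746880, 450084600, 561971200, 576108288, 607614210, 719323136, 758661120, 800150400, 1024192512, 1080203040, 1348730880, 1422489600, 1458274104, 1820786688, 1920360960, 2025380700, 2528870400,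 2592487296, 2734263945, 3236954112, 3413975040, 3600676800, 4495769600, 4608866304, 4860913680, 6069288960, 6401203200, 6562233468, 8060774400, 8193540096, 8641624320, 9114213150, 10789847040, 11379916800, 11666192832, 14566293504, 15362887680, 16203045600, 20230963200, 20739898368, 21874111560, 27311800320, 28805414400, 29530050606, 36870930432, 38887309440, 41013959175, 48554311680, 51209625600, 52497867744, 65548320768, 69132994560, 72913705200, 91039334400, 93329542656, 98433502020, 122903101440, 129624364800, 161847705600, 165919186944, 174992892480, 218494402560, 230443315200, 236240404848, 294967443456, 311098475520, 328111673400, 409677004800, 419982941952, 524386566144, 553063956480, 583309641600, 728314675200, 746636341248, 787468016160, 983224811520, 1036994918400, 1327353495552, 1399943139840, 1476502530300, 1843546521600, 1889923238784, 2359739547648, 2488787804160, 2624893387200, 3277416038400, 3359863535616, 4424511651840, 4666477132800, 5973090729984, 6299744129280, 7865798492160, 8295959347200, 10618827964416, 11199545118720, 11812020242400,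 14748372172800, 15119385910272, 19910302433280, 20999147097600, 26878908284928, 35396093214720, 37331817062400, 47784725839872, 50397953034240, 66367674777600, 89596360949760, 94496161939200, 117986977382400, 120955087282176, 159282419466240, 167993176780800, 215031266279424, 298654536499200, 382277806718976, 403183624273920, 530941398220800, 716770887598080, 755969295513600, 967640698257408, 1343945414246400, 1720250130235392, 2389236291993600, 3225468994191360, 5734167100784640, 6047754364108800, 7741125586059264, 10751563313971200, 25803751953530880, 48382034912870400, 86012506511769600, 387056279302963200]⟩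

def iP3 : CI := ⟨5, 43046721, [3], [86093442, 215233605, 344373768, 473513931, 602654094, 731794257, 860934420, 1119214746, 1377495072, 1506635235, 1894055724, 2152336050, 2410616376, 2927177028, 3443737680, 4218578658, 4476858984, 4735139310, 5509980288, 6026540940, 7576222896, 8609344200, 9642465504, 10546446645, 11708708112, 13774950720, 15066352350, 16874314632, 17907435936, 18940557240, 22039921152, 24106163760, 29530050606, 31338012888, 34437376800, 38569862016, 42185786580, 55099802880, 60265409400, 67497258528, 71629743744, 73825126515, 75762228960, 88159684608, 96424655040, 105464466450, 111921474600, 118120202424, 125352051552, 137749507200, 154279448064, 168743146320, 187339329792, 220399211520, 241061637600, 269989034112, 286518974976, 295300506060, 303048915840, 352638738432, 385698620160, 421857865800, 447685898400, 472480809696, 484878265344, 501408206208, 550998028800, 617117792256, 674972585280, 716297437440, 738251265150, 749357319168, 881596846080, 964246550400, 1079956136448, 1181202024240, 1253520515520, 1410554953728, 1542794480640,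 1687431463200, 1790743593600, 1889923238784, 1939513061376, 2005632824832, 2203992115200, 2468471169024, 2699890341120, 2865189749760, 2953005060600, 2997429276672, 3526387384320, 3856986201600, 4319824545792, 4584303599616, 4724808096960, 4848782653440, 5014082062080, 5642219814912, 6171177922560, 6749725852800, 7162974374400, 7559692955136, 7758052245504, 8022531299328, 8815968460800, 9873884676096, 10799561364480, 11460758999040, 11812020242400, 14105549537280, 15427944806400, 17279298183168, 18337214398464, 18899232387840, 19395130613760, 20056328248320, 21213424108800, 22568879259648, 24684711690240, 26998903411200, 28651897497600, 30238771820544, 35263873843200, 39495538704384, 43198245457920, 47248080969600, 47958868426752, 56422198149120, 61711779225600, 69117192732672, 73348857593856, 75596929551360, 77580522455040, 80225312993280, 84853696435200, 90275517038592, 98738846760960, 107995613644800, 114607589990400, 120955087282176, 128360500789248, 141055495372800, 157982154817536, 172792981831680, 188992323878400, 191835473707008, 224630876381184,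 225688792596480, 246847116902400, 276468770930688, 293395430375424, 302387718205440, 310322089820160, 320901251973120, 339414785740800, 394955387043840, 431982454579200, 458430359961600, 483820349128704, 496515343712256, 513442003156992, 543063657185280, 561577190952960, 564221981491200, 631928619270144, 691171927326720, 755969295513600, 767341894828032, 802253129932800, 898523505524736, 987388467609600, 1103098053657600, 1105875083722752, 1173581721501696, 1209550872821760, 1357659142963200, 1579821548175360, 1727929818316800, 1833721439846400, 1935281396514816, 2053768012627968, 2172254628741120, 2246308763811840, 2256887925964800, 2764687709306880, 2933954303754240, 3023877182054400, 3209012519731200, 3949553870438400, 4412392214630400, 4423500334891008, 4838203491287040, 4965153437122560, 5134420031569920, 6911719273267200, 7334885759385600, 7721686375603200, 7741125586059264, 8215072050511872, 8689018514964480, 11058750837227520, 12095508728217600, 12836050078924800, 15798215481753600, 17649568858521600, 19352813965148160, 20537680126279680,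 21722546287411200, 27646877093068800, 29339543037542400, 30886745502412800, 30964502344237056, 34756074059857920, 48382034912870400, 77411255860592640, 86890185149644800, 110587508372275200, 123546982009651200, 193528139651481600, 282393101736345600, 774112558605926400, 1129572406945382400]⟩

def iP2 : CI := ⟨6, 2097152, [2], [2097152, 6291456, 10485760, 14680064, 18874368, 23068672, 31457280, 44040192, 52428800, 56623104, 69206016, 73400320, 94371840, 102760448, 115343360, 132120576, 157286400, 169869312, 220200960, 283115520, 308281344, 320864256, 346030080, 367001600, 396361728, 471859200, 509607936, 513802240, 534773760, 660602880, 719323136, 736100352, 849346560, 924844032, 1038090240, 1101004800, 1189085184, 1415577600, 1528823808, 1541406720, 1981808640, 2044723200, 2157969408, 2208301056, 2548039680, 2569011200, 2774532096, 3114270720, 3303014400, 3567255552, 3596615680, 4246732800, 4586471424, 4624220160, 5605687296, 5945425920, 6134169600, 6473908224, 6624903168, 7266631680, 7644119040, 7707033600, 8323596288, 8587837440, 9342812160,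 9909043200, 10701766656, 10789847040, 12740198400, 13759414272, 13872660480, 16817061888, 17836277760, 17983078400, 18402508800, 19421724672, 19874709504, 21799895040, 22932357120, 23121100800, 24970788864, 25763512320, 28028436480, 29727129600, 32105299968, 32369541120, 38220595200, 41278242816, 41617981440, 53508833280, 53949235200, 55207526400, 58265174016, 59624128512, 65399685120, 68797071360, 69363302400, 74912366592, 77290536960, 84085309440, 89181388800, 96315899904, 97108623360, 99373547520, 101072240640, 114661785600, 123834728448, 124853944320, 139122966528, 160526499840, 161847705600, 165622579200, 174795522048, 178872385536, 206391214080, 208089907200, 224737099776, 231871610880, 252255928320, 267544166400, 288947699712, 291325870080, 298120642560, 326998425600, 343985356800, 371504185344, 374561832960, 417368899584, 481579499520, 485543116800, 496867737600, 501397585920, 524386566144, 536617156608, 588597166080, 619173642240, 624269721600, 674211299328, 695614832640, 756767784960, 802632499200, 866843099136, 873977610240, 894361927680,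 980995276800, 1031956070400, 1114512556032, 1123685498880, 1252106698752, 1362182012928, 1444738498560, 1456629350400, 1490603212800, 1573159698432, 1609851469824, 1765791498240, 1857520926720, 1872809164800, 2022633897984, 2086844497920, 2270303354880, 2407897497600, 2600529297408, 2621932830720, 2683085783040, 2942985830400, 3095868211200, 3343537668096, 3371056496640, 3756320096256, 4086546038784, 4334215495680, 4369888051200, 4471809638400, 4719479095296, 4829554409472, 5297374494720, 5572562780160, 5618427494400, 6067901693952, 6260533493760, 6810910064640, 7223692492800, 7801587892224, 7865798492160, 8049257349120, 8828957491200, 9287604633600, 10030613004288, 10113169489920, 11268960288768, 12752938598400, 13002646487040, 13109664153600, 13415428915200, 14158437285888, 14488663228416, 15892123484160, 16717688340480, 16855282483200, 18203705081856, 18781600481280, 20432730193920, 21671077478400, 23404763676672, 23597395476480, 24147772047360, 27862813900800, 30091839012864, 30339508469760, 33806880866304, 38258815795200, 39007939461120, 39328992460800,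 40246286745600, 42475311857664, 43465989685248, 50030759116800, 50153065021440, 50565847449600, 54611115245568, 56344801443840, 61298190581760, 65013232435200, 70214291030016, 70792186429440, 72443316142080, 79460617420800, 83588441702400, 90275517038592, 91018525409280, 101420642598912, 114776447385600, 117023818383360, 117986977382400, 120738860236800, 127425935572992, 130397969055744, 143029111357440, 150459195064320, 151697542348800, 163833345736704, 169034404331520, 183894571745280, 195039697305600, 210642873090048, 212376559288320, 217329948426240, 238381852262400, 250765325107200, 273055576227840, 304261927796736, 331010229141504, 351071455150080, 353960932147200, 362216580710400, 382277806718976, 391193907167232, 429087334072320, 451377585192960, 455092627046400, 491500037210112, 507103212994560, 551683715235840, 585119091916800, 631928619270144, 637129677864960, 651989845278720, 715145556787200, 752295975321600, 819166728683520, 912785783390208, 993030687424512, 1032988026470400, 1053214365450240, 1061882796441600, 1086649742131200, 1146833420156928,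 1173581721501696, 1287262002216960, 1365277881139200, 1474500111630336, 1521309638983680, 1655051145707520, 1755357275750400, 1911389033594880, 1955969535836160, 2145436670361600, 2256887925964800, 2457500186050560, 2738357350170624, 3098964079411200, 3159643096350720, 3185648389324800, 3259949226393600, 3440500260470784, 3861786006650880, 4095833643417600, 4423500334891008, 4563928916951040, 4965153437122560, 5266071827251200, 5734167100784640, 5867908607508480, 7372500558151680, 8215072050511872, 9296892238233600, 9556945167974400, 9779847679180800, 10321500781412352, 12287500930252800, 13691786750853120, 15798215481753600, 17202501302353920, 19308930033254400, 22117501674455040, 27890676714700800, 28670835503923200, 29339543037542400, 30964502344237056, 34756074059857920, 36862502790758400, 41075360252559360, 51607503907061760, 57926790099763200, 86012506511769600, 88821078152970240, 110587508372275200, 154822511721185280, 173780370299289600, 251016090432307200, 258037519535308800, 753048271296921600, 774112558605926400, 2259144813890764800]⟩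

def items : List CI := [iFi23, iP29, iP11, iP13, iP7, iP3, iP2]

theorem chkFi23 : chkO l_fi24p n_fi24p iFi23.a [(2, 3), (3, 3), (7, 2), (29, 1)] iFi23.ords iFi23.full 60 loc o_fi24p = true :=
  Cfsg.Agent.H940.EngF.chkO_fast (by decide +kernel)

theorem chkP29 : chkO l_fi24p n_fi24p iP29.a [(2, 21), (3, 16), (5, 2), (7, 3), (11, 1), (13, 1), (17, 1), (23, 1)] iP29.ords iP29.full 60 loc o_fi24p = true :=
  Cfsg.Agent.H940.EngF.chkO_fast (by decide +kernel)

theorem chkP11 : chkO l_fi24p n_fi24p iP11.a [(2, 21), (3, 16), (5, 2), (7, 3), (13, 1), (17, 1), (23, 1), (29, 1)] iP11.ords iP11.full 60 loc o_fi24p = true :=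
  Cfsg.Agent.H940.EngF.chkO_fast (by decide +kernel)

theorem chkP13 : chkO l_fi24p n_fi24p iP13.a [(2, 21), (3, 16), (5, 2), (7, 3), (11, 1), (17, 1), (23, 1), (29, 1)] iP13.ords iP13.full 60 loc o_fi24p = true :=
  Cfsg.Agent.H940.EngF.chkO_fast (by decide +kernel)

theorem chkP7 : chkO l_fi24p n_fi24p iP7.a [(2, 21), (3, 16), (5, 2), (11, 1), (13, 1), (17, 1), (23, 1), (29, 1)] iP7.ords iP7.full 60 loc o_fi24p = true :=
  Cfsg.Agent.H940.EngF.chkO_fast (by decide +kernel)

theorem chkP3 : chkO l_fi24p n_fi24p iP3.a [(2, 21), (5, 2), (7, 3), (11, 1), (13, 1), (17, 1), (23, 1), (29, 1)] iP3.ords iP3.full 60 loc o_fi24p = true :=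
  Cfsg.Agent.H940.EngF.chkO_fast (by decide +kernel)

theorem chkP2 : chkO l_fi24p n_fi24p iP2.a [(3, 16), (5, 2), (7, 3), (11, 1), (13, 1), (17, 1), (23, 1), (29, 1)] iP2.ords iP2.full 60 loc o_fi24p = true :=
  Cfsg.Agent.H940.EngF.chkO_fast (by decide +kernel)

theorem cov : covB n_fi24p (fun _ _ => false) 4 items = true :=
  Cfsg.Agent.H940.EngF.cov_fast (by decide +kernel)

theorem good (B : Base) : ∀ x ∈ items, ∃ A : Subgroup G, x.Good A := by
  have c := ctx B
  intro x hx
  simp only [items, List.mem_cons, List.not_mem_nil, or_false] at hx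
  rcases hx with rfl | rfl | rfl | rfl | rfl | rfl | rfl
  · obtain ⟨A, h1, h2⟩ := exists_fi23
    exact ⟨A, c.goodD h1 h2 (fun p hp => absurd hp List.not_mem_nil) _ _ chkFi23⟩
  · obtain ⟨A, h1, h2, h3⟩ := prime_item c (r := 29) (q := 2) (by decide +kernel) (by decide +kernel) (by decide +kernel) (by decide) (by decide +kernel)
    exact ⟨A, c.goodD h1 h2 h3 _ _ chkP29⟩
  · obtain ⟨A, h1, h2, h3⟩ := prime_item c (r := 11) (q := 2) (by decide +kernel) (by decide +kernel) (by decide +kernel) (by decide) (by decide +kernel)
    exact ⟨A, c.goodD h1 h2 h3 _ _ chkP11⟩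
  · obtain ⟨A, h1, h2, h3⟩ := prime_item c (r := 13) (q := 2) (by decide +kernel) (by decide +kernel) (by decide +kernel) (by decide) (by decide +kernel)
    exact ⟨A, c.goodD h1 h2 h3 _ _ chkP13⟩
  · obtain ⟨A, h1, h2, h3⟩ := sylow_item c (p := 7) (e := 3) (q := 2) (by decide +kernel) (by decide) (by decide +kernel) (by decide +kernel) (by decide) (by decide +kernel)
    exact ⟨A, c.goodD h1 h2 h3 _ _ chkP7⟩
  · obtain ⟨A, h1, h2, h3⟩ := sylow_item c (p := 3) (e := 16) (q := 2) (by decide +kernel) (by decide) (by decide +kernel) (by decide +kernel) (by decide) (by decide +kernel)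
    exact ⟨A, c.goodD h1 h2 h3 _ _ chkP3⟩
  · obtain ⟨A, h1, h2, h3⟩ := sylow_item c (p := 2) (e := 21) (q := 3) (by decide +kernel) (by decide) (by decide +kernel) (by decide +kernel) (by decide) (by decide +kernel)
    exact ⟨A, c.goodD h1 h2 h3 _ _ chkP2⟩

/-- five classes of maximal subgroups of `Fi24'` -/
theorem five (B : Base) : MaxCls.Sep 5 Cfsg.Spor.Fi24' := by
  have := fin
  exact sep_of_items card items (good B) cov

end Cfsg.Agent.H256.Sep.RowFi24
end

private theorem dce_e6bf53bcfa94 : _root_.True := by
  try have : _root_.True := by simp only [_root_.Cfsg.Agent.H256.Sep.RowFi24.loc.eq_1]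
  try have : _root_.True := by simp only [_root_.Cfsg.Agent.H256.Sep.RowFi24.items.eq_1]
  try have : _root_.True := by simp only [_root_.Cfsg.Agent.H305.SepJ2.loc.eq_1]
  exact _root_.True.intro
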