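import Cfsg.Agent.ClassicalGeometry.AutPSL.Main
import Cfsg.Agent.H161.Rec.Fi24Facts
import Cfsg.Agent.H187.FiOdd.Cent_m3
import Cfsg.Agent.H299.SprJ3
import Cfsg.Agent.H609.TH.Expl
import Cfsg.Agent.H701.SporFi24
import Cfsg.Agent.H833.Out24
import Cfsg.Agent.H843.OCSporB
import Cfsg.Agent.OrdDiv.Table
import Cfsg.Agent.FastGrp
import Cfsg.Agent.Prune
set_option linter.all false
prune_inst 0x7ffcfdfbeff8bfffdfff7e7fafdddffdfdb8fffffffff9cbffe869ff3fdf6b0ec9c5abad8fe890fe5ef6629c10f87b53ffffeeffe86fdc7ffffd5ff41ffbffcffdf7b50871f78c3e0fbc0fff03f07f8e7f3fffffffffffffffffffffffffffbeffffffffffff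
open scoped Cfsg.Agent.FastGrp

/-!
# S3938, the row `Fi₂₄'` (task 5126, helper305)

`s` of order 29; the simple groups at the top are the subgroups `L₂(29)`, at most 3132 of them contain `s`
(`card_cent_fourteen`).

* inner automorphisms and the outer involutions `abc`: counting; an element of order 3 of `L₂(29)` commutes with an
  element of order 5 (`exists_five`), so it lies in the subgroup `S₉` of the centralizer of this element;
* transpositions `g`: no subgroup `L₂(29)` is invariant, since all the elements `y⁻¹ y^g` are products of two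
  transpositions (`exists_big`, `not_inv`).
-/

set_option autoImplicit false

namespace Cfsg.Agent.H305.SprFi24

section PSL

open Matrix
open Cfsg.Agent.ClassicalGeometry.AutPSL.Root Cfsg.Agent.ClassicalGeometry.AutPSL.Auto
open Cfsg.Agent.ClassicalGeometry.AutPSL.Main

theorem sq_or_zmod : ∀ k : ZMod 29, ∃ x : ZMod 29, x ^ 2 = -5 * k ∨ x ^ 2 = -8 * k := by decide +kernel

variable {F : Type*} [Field F]

theorem ringAut_eq [Fintype F] (hF : Fintype.card F = 29) (σ : F ≃+* F) (x : F) : σ x = x := by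
  have hp : Fact (Nat.Prime 29) := ⟨by norm_num⟩
  have : CharP F 29 := charP_of_card_eq_prime hF
  obtain ⟨k, rfl⟩ := (ZMod.ringEquiv F hF).surjective x
  rw [← ZMod.natCast_zmod_val k, map_natCast, map_natCast]

theorem sq_or [Fintype F] (hF : Fintype.card F = 29) (u : F) : ∃ x : F, x ^ 2 = -5 * u ∨ x ^ 2 = -8 * u := by
  have hp : Fact (Nat.Prime 29) := ⟨by norm_num⟩
  have : CharP F 29 := charP_of_card_eq_prime hF
  obtain ⟨k, rfl⟩ := (ZMod.ringEquiv F hF).surjective u
  obtain ⟨x, hx⟩ := sq_or_zmod k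
  refine ⟨ZMod.ringEquiv F hF x, ?_⟩
  rcases hx with hx | hx
  · left
    have h1 := congrArg (ZMod.ringEquiv F hF) hx
    rw [map_pow, map_mul, map_neg, map_ofNat] at h1
    exact h1
  · right
    have h1 := congrArg (ZMod.ringEquiv F hF) hx
    rw [map_pow, map_mul, map_neg, map_ofNat] at h1
    exact h1

/-- the trace of `y⁻¹ A y A⁻¹` -/
theorem trace_eq (a b c d e p q r s : F) :
    (!![s, -q; -r, p] * (!![a, b; c, d] * !![p, q; r, s] * (e • !![d, -b; -c, a])) : Matrix (Fin 2) (Fin 2) F).trace =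
      e * ((s * (a * p + b * r) - q * (c * p + d * r)) * d + (s * (a * q + b * s) - q * (c * q + d * s)) * (-c) +
        ((-r * (a * p + b * r) + p * (c * p + d * r)) * (-b) + (-r * (a * q + b * s) + p * (c * q + d * s)) * a)) := by
  simp only [Matrix.trace_fin_two, _root_.Matrix.cons_mul, _root_.Nat.succ_eq_add_one, _root_.Nat.reduceAdd, _root_.Matrix.vecMul_cons, _root_.Matrix.head_cons, _root_.Matrix.smul_cons, _root_.smul_eq_mul, _root_.Matrix.smul_empty, _root_.Matrix.tail_cons, _root_.Matrix.empty_vecMul, _root_.add_zero, _root_.Matrix.add_cons, _root_.Matrix.empty_add_empty, _root_.Matrix.empty_mul, _root_.Equiv.symm_apply_apply, _root_.Matrix.smul_of, _root_.mul_neg, _root_.neg_smul, _root_.Matrix.neg_cons, _root_.Matrix.neg_empty, _root_.Fin.isValue, _root_.Matrix.of_apply, _root_.Matrix.cons_val', _root_.Matrix.cons_val_zero, _root_.Matrix.cons_val_fin_one, _root_.Matrix.cons_val_one, _root_.neg_mul]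
  ring

theorem val_mul (A B : _root_.Matrix.SpecialLinearGroup (Fin 2) F) : (A * B).1 = A.1 * B.1 := rfl

/-- two by two matrices of determinant 1 whose square or cube is scalar -/
theorem pow_trace {M : _root_.Matrix.SpecialLinearGroup (Fin 2) F} {τ : F} (hτ : M.1.trace = τ) :
    (M * M).1.trace = τ ^ 2 - 2 ∧ (M * M * M).1.trace = τ ^ 3 - 3 * τ := by
  have hdet : M.1.det = 1 := M.2
  rw [Matrix.det_fin_two] at hdet
  rw [Matrix.trace_fin_two] at hτ
  constructor
  · rw [val_mul, Matrix.trace_fin_two, ← hτ]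
    simp only [Matrix.mul_apply, Fin.sum_univ_two]
    linear_combination (-2) * hdet
  · rw [val_mul, val_mul, Matrix.trace_fin_two, ← hτ]
    simp only [Matrix.mul_apply, Fin.sum_univ_two]
    linear_combination (-3) * (M.1 0 0 + M.1 1 1) * hdet

/-- a scalar matrix of determinant 1 -/
theorem sq_of_scalar {M : _root_.Matrix.SpecialLinearGroup (Fin 2) F} (h : pr M = 1) {t : F}
    (ht : M.1.trace = t) : t ^ 2 = 4 := by
  obtain ⟨c, hc⟩ := exists_smul_of_pr_eq (x := 1) (y := M) (by rw [h, map_one])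
  have hc' : M.1 = c • (1 : Matrix (Fin 2) (Fin 2) F) := hc
  have hdet : M.1.det = 1 := M.2
  rw [hc'] at hdet ht
  simp only [_root_.Matrix.det_smul_of_tower, _root_.Fintype.card_fin, _root_.Matrix.det_one, _root_.smul_eq_mul, _root_.mul_one, _root_.sq_eq_one_iff, _root_.Matrix.trace_smul, _root_.Matrix.trace_one, _root_.Nat.cast_ofNat] at hdet ht
  rcases hdet with h1 | h1 <;> rw [← ht, h1] <;> norm_num

theorem not_pow [Fintype F] (hF : Fintype.card F = 29) {M : _root_.Matrix.SpecialLinearGroup (Fin 2) F}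
    (hτ : M.1.trace = -3 ∨ M.1.trace = -6) :
    (pr M) ^ 2 ≠ 1 ∧ (pr M) ^ 3 ≠ 1 := by
  have hp : Fact (Nat.Prime 29) := ⟨by norm_num⟩
  have : CharP F 29 := charP_of_card_eq_prime hF
  have h29 : (29 : F) = 0 := by
    have := CharP.cast_eq_zero F 29
    exact_mod_cast this
  have hne : ∀ n : ℕ, ¬ 29 ∣ n → (n : F) ≠ 0 := fun n hn h => hn ((CharP.cast_eq_zero_iff F 29 n).1 h)
  have key : ∀ τ : F, M.1.trace = τ → ((τ ^ 2 - 2) ^ 2 ≠ 4) → ((τ ^ 3 - 3 * τ) ^ 2 ≠ 4) →
      (pr M) ^ 2 ≠ 1 ∧ (pr M) ^ 3 ≠ 1 := by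
    intro τ hτ h1 h2
    obtain ⟨h3, h4⟩ := pow_trace hτ
    refine ⟨fun h => h1 (sq_of_scalar ?_ h3), fun h => h2 (sq_of_scalar ?_ h4)⟩
    · rw [map_mul, ← pow_two, h]
    · rw [map_mul, map_mul, ← pow_two, ← pow_succ, h]
  rcases hτ with hτ | hτ
  · refine key _ hτ (fun h => hne 45 (by norm_num) ?_) (fun h => hne 320 (by norm_num) ?_)
    · push_cast
      linear_combination h
    · push_cast
      linear_combination h
  · refine key _ hτ (fun h => hne 1152 (by norm_num) ?_) (fun h => hne 39200 (by norm_num) ?_)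
    · push_cast
      linear_combination h
    · push_cast
      linear_combination h

/-- **an automorphism `≠ 1` of `PSL₂(29)`**: some `y⁻¹ β(y)` is of order `> 3` -/
theorem exists_big [Fintype F] (hF : Fintype.card F = 29) (β : MulAut (ProjectiveSpecialLinearGroup (Fin 2) F))
    (hβ : β ≠ 1) : ∃ y : ProjectiveSpecialLinearGroup (Fin 2) F, (y⁻¹ * β y) ^ 2 ≠ 1 ∧ (y⁻¹ * β y) ^ 3 ≠ 1 := by
  have hp : Fact (Nat.Prime 29) := ⟨by norm_num⟩
  have hch : CharP F 29 := charP_of_card_eq_prime hF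
  obtain ⟨A, σ, rfl⟩ := surj_two 29 β
  have hσ : fld σ = (1 : MulAut (_root_.Matrix.SpecialLinearGroup (Fin 2) F)) := by
    ext g i j
    rw [coe_fld_apply, ringAut_eq hF]
    rfl
  rw [hσ, mul_one] at hβ ⊢
  obtain ⟨a, b, c, d, hA⟩ : ∃ a b c d : F, (A : Matrix (Fin 2) (Fin 2) F) = !![a, b; c, d] :=
    ⟨_, _, _, _, (Matrix.eta_fin_two _)⟩
  set D := a * d - b * c with hD
  have hdet : (A : Matrix (Fin 2) (Fin 2) F).det = D := by rw [hA, Matrix.det_fin_two]; simp [hD]
  have hD0 : D ≠ 0 := by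
    rw [← hdet]
    exact ((Matrix.isUnit_iff_isUnit_det _).1 A.isUnit).ne_zero
  have hAi : ((A⁻¹ : GL (Fin 2) F) : Matrix (Fin 2) (Fin 2) F) = D⁻¹ • !![d, -b; -c, a] := by
    rw [Matrix.coe_units_inv, Matrix.inv_def, hdet, hA, Matrix.adjugate_fin_two]
    simp only [_root_.Ring.inverse_eq_inv', _root_.Fin.isValue, _root_.Matrix.of_apply, _root_.Matrix.cons_val', _root_.Matrix.cons_val_one, _root_.Matrix.cons_val_fin_one, _root_.Matrix.cons_val_zero, _root_.Matrix.smul_of, _root_.Matrix.smul_cons, _root_.smul_eq_mul, _root_.mul_neg, _root_.Matrix.smul_empty]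
  -- it is enough to find `y` with the right trace
  have key : ∀ p q r s : F, p * s - q * r = 1 →
      (∀ τ : F, τ = D⁻¹ * ((s * (a * p + b * r) - q * (c * p + d * r)) * d + (s * (a * q + b * s) - q * (c * q + d * s)) * (-c) +
        ((-r * (a * p + b * r) + p * (c * p + d * r)) * (-b) + (-r * (a * q + b * s) + p * (c * q + d * s)) * a)) →
        τ = -3 ∨ τ = -6) →
      ∃ y : ProjectiveSpecialLinearGroup (Fin 2) F, (y⁻¹ * lift (cj A) y) ^ 2 ≠ 1 ∧ (y⁻¹ * lift (cj A) y) ^ 3 ≠ 1 := by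
    intro p q r s h1 hτ
    let Y : _root_.Matrix.SpecialLinearGroup (Fin 2) F := ⟨!![p, q; r, s], by rw [Matrix.det_fin_two]; simpa using h1⟩
    refine ⟨pr Y, ?_⟩
    have h2 : (pr Y)⁻¹ * lift (cj A) (pr Y) = pr (Y⁻¹ * cj A Y) := by
      rw [lift_pr, map_mul, map_inv]
    rw [h2]
    apply not_pow hF
    have h3 : (Y⁻¹ * cj A Y).1 =
        !![s, -q; -r, p] * (!![a, b; c, d] * !![p, q; r, s] * (D⁻¹ • !![d, -b; -c, a])) := by
      rw [val_mul]
      have h4 : (cj A Y).1 = (A : Matrix (Fin 2) (Fin 2) F) * Y.1 * ((A⁻¹ : GL (Fin 2) F) : Matrix (Fin 2) (Fin 2) F) := rfl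
      have h5 : (Y⁻¹).1 = Y.1.adjugate := rfl
      rw [h4, hA, hAi, h5, Matrix.adjugate_fin_two]
      rfl
    rw [h3, trace_eq]
    exact hτ _ rfl
  have hDD : D⁻¹ * D = 1 := inv_mul_cancel₀ hD0
  by_cases hc : c = 0
  · by_cases hb : b = 0
    · -- diagonal
      have had : a ≠ d := by
        intro had
        apply hβ
        rw [cj_eq_one_of_scalar (r := a), map_one]
        rw [hA, hb, hc, ← had]
        ext i j
        (revert i j; simp only [Matrix.scalar_apply, _root_.Fin.forall_fin_succ, _root_.Matrix.of_apply, _root_.Matrix.cons_val', _root_.Matrix.cons_val_fin_one, Fin.isValue, _root_.Matrix.cons_val_zero, _root_.Matrix.cons_val_succ, _root_.Fin.succ_zero_eq_one, _root_.IsEmpty.forall_iff, _root_.and_true, _root_.Matrix.diagonal_apply_eq, _root_.ne_eq, _root_.zero_ne_one, _root_.not_false_eq_true, _root_.Matrix.diagonal_apply_ne, _root_.and_self, _root_.Fin.succ_ne_zero, _root_.true_and])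
      -- `x = 1`, `z = 5 D / (a - d) ^ 2`
      have had' : (a - d) ≠ 0 := sub_ne_zero.2 had
      have hD' : D = a * d := by rw [hD, hb, hc]; ring
      refine key 1 1 (5 * D / (a - d) ^ 2) (1 + 5 * D / (a - d) ^ 2) (by ring) (fun τ hτ => Or.inl ?_)
      rw [hτ, hb, hc]
      have h1 : (5 * D / (a - d) ^ 2) * (a - d) ^ 2 = 5 * D := by field_simp
      set z := 5 * D / (a - d) ^ 2 with hz
      rw [hD'] at h1 hDD ⊢
      linear_combination (-(a * d)⁻¹) * h1 + (-3) * hDD
    · obtain ⟨x, hx⟩ := sq_or hF (D / b ^ 2)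
      refine key 1 0 x 1 (by ring) (fun τ hτ => ?_)
      have h1 : D / b ^ 2 * b ^ 2 = D := by field_simp
      rcases hx with hx | hx
      · left
        rw [hτ]
        linear_combination (D⁻¹ * b ^ 2) * hx - 5 * D⁻¹ * h1 + (-3) * hDD - 2 * D⁻¹ * hD
      · right
        rw [hτ]
        linear_combination (D⁻¹ * b ^ 2) * hx - 8 * D⁻¹ * h1 + (-6) * hDD - 2 * D⁻¹ * hD
  · obtain ⟨x, hx⟩ := sq_or hF (D / c ^ 2)
    refine key 1 x 0 1 (by ring) (fun τ hτ => ?_)
    have h1 : D / c ^ 2 * c ^ 2 = D := by field_simp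
    rcases hx with hx | hx
    · left
      rw [hτ]
      linear_combination (D⁻¹ * c ^ 2) * hx - 5 * D⁻¹ * h1 + (-3) * hDD - 2 * D⁻¹ * hD
    · right
      rw [hτ]
      linear_combination (D⁻¹ * c ^ 2) * hx - 8 * D⁻¹ * h1 + (-6) * hDD - 2 * D⁻¹ * hD

/-- **an element of order 3 of `PSL₂(29)` commutes with an element of order 5** -/
theorem exists_five [Fintype F] (hF : Fintype.card F = 29) {x : ProjectiveSpecialLinearGroup (Fin 2) F}
    (hx : orderOf x = 3) : ∃ y : ProjectiveSpecialLinearGroup (Fin 2) F, orderOf y = 5 ∧ x * y = y * x := by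
  have hp : Fact (Nat.Prime 29) := ⟨by norm_num⟩
  have : CharP F 29 := charP_of_card_eq_prime hF
  have h29 : (29 : F) = 0 := by
    have := CharP.cast_eq_zero F 29
    exact_mod_cast this
  have hne : ∀ n : ℕ, ¬ 29 ∣ n → (n : F) ≠ 0 := fun n hn h => hn ((CharP.cast_eq_zero_iff F 29 n).1 h)
  obtain ⟨M, rfl⟩ := pr_surjective x
  have hM1 : pr M ≠ 1 := fun h => by rw [h, orderOf_one] at hx; omega
  -- the trace is `± 1`
  obtain ⟨c, hc⟩ := exists_smul_of_pr_eq (x := 1) (y := M * M * M) (by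
    have h1 := pow_orderOf_eq_one (pr M)
    rw [hx] at h1
    rw [map_one, map_mul, map_mul, ← pow_two, ← pow_succ, h1])
  have hc' : (M * M * M).1 = c • (1 : Matrix (Fin 2) (Fin 2) F) := hc
  have hdet : M.1.det = 1 := M.2
  rw [Matrix.det_fin_two] at hdet
  obtain ⟨p, q, r, s, hM⟩ : ∃ p q r s : F, M.1 = !![p, q; r, s] := ⟨_, _, _, _, (Matrix.eta_fin_two _)⟩
  rw [val_mul, val_mul, hM] at hc'
  rw [hM] at hdet
  simp at hdet
  -- `M ^ 3 = (τ ^ 2 - 1) M - τ`
  have e1 : ((p + s) ^ 2 - 1) * q = 0 := by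
    have h1 := congrFun (congrFun hc' 0) 1
    simp only [_root_.Matrix.cons_mul, _root_.Nat.succ_eq_add_one, _root_.Nat.reduceAdd, _root_.Matrix.vecMul_cons, _root_.Matrix.head_cons, _root_.Matrix.smul_cons, _root_.smul_eq_mul, _root_.Matrix.smul_empty, _root_.Matrix.tail_cons, _root_.Matrix.empty_vecMul, _root_.add_zero, _root_.Matrix.add_cons, _root_.Matrix.empty_add_empty, _root_.Matrix.empty_mul, _root_.Equiv.symm_apply_apply, _root_.Fin.isValue, _root_.Matrix.of_apply, _root_.Matrix.cons_val', _root_.Matrix.cons_val_one, _root_.Matrix.cons_val_fin_one, _root_.Matrix.cons_val_zero, _root_.Matrix.smul_apply, _root_.ne_eq, _root_.zero_ne_one, _root_.not_false_eq_true, _root_.Matrix.one_apply_ne, _root_.MulZeroClass.mul_zero] at h1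
    linear_combination h1 + q * hdet
  have e2 : ((p + s) ^ 2 - 1) * r = 0 := by
    have h1 := congrFun (congrFun hc' 1) 0
    simp only [_root_.Matrix.cons_mul, _root_.Nat.succ_eq_add_one, _root_.Nat.reduceAdd, _root_.Matrix.vecMul_cons, _root_.Matrix.head_cons, _root_.Matrix.smul_cons, _root_.smul_eq_mul, _root_.Matrix.smul_empty, _root_.Matrix.tail_cons, _root_.Matrix.empty_vecMul, _root_.add_zero, _root_.Matrix.add_cons, _root_.Matrix.empty_add_empty, _root_.Matrix.empty_mul, _root_.Equiv.symm_apply_apply, _root_.Fin.isValue, _root_.Matrix.of_apply, _root_.Matrix.cons_val', _root_.Matrix.cons_val_zero, _root_.Matrix.cons_val_fin_one, _root_.Matrix.cons_val_one, _root_.Matrix.smul_apply, _root_.ne_eq, _root_.one_ne_zero, _root_.not_false_eq_true, _root_.Matrix.one_apply_ne, _root_.MulZeroClass.mul_zero] at h1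
    linear_combination h1 + r * hdet
  have e3 : ((p + s) ^ 2 - 1) * (p - s) = 0 := by
    have h1 := congrFun (congrFun hc' 0) 0
    have h2 := congrFun (congrFun hc' 1) 1
    simp only [_root_.Matrix.cons_mul, _root_.Nat.succ_eq_add_one, _root_.Nat.reduceAdd, _root_.Matrix.vecMul_cons, _root_.Matrix.head_cons, _root_.Matrix.smul_cons, _root_.smul_eq_mul, _root_.Matrix.smul_empty, _root_.Matrix.tail_cons, _root_.Matrix.empty_vecMul, _root_.add_zero, _root_.Matrix.add_cons, _root_.Matrix.empty_add_empty, _root_.Matrix.empty_mul, _root_.Equiv.symm_apply_apply, _root_.Fin.isValue, _root_.Matrix.of_apply, _root_.Matrix.cons_val', _root_.Matrix.cons_val_zero, _root_.Matrix.cons_val_fin_one, _root_.Matrix.smul_apply, _root_.Matrix.one_apply_eq, _root_.mul_one, _root_.Matrix.cons_val_one] at h1 h2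
    linear_combination h1 - h2 + (p - s) * hdet
  have hsc : q = 0 → r = 0 → p - s = 0 → False := by
    intro hq hr hs
    apply hM1
    rw [← map_one pr]
    symm
    apply pr_eq_of_smul (c := p)
    show M.1 = p • (1 : Matrix (Fin 2) (Fin 2) F)
    rw [hM, hq, hr]
    ext i j
    (revert i j; simp only [_root_.Fin.forall_fin_succ, _root_.Matrix.of_apply, _root_.Matrix.cons_val', _root_.Matrix.cons_val_fin_one, _root_.Matrix.smul_apply, _root_.smul_eq_mul, Fin.isValue, _root_.Matrix.cons_val_zero, _root_.Matrix.cons_val_succ, _root_.IsEmpty.forall_iff, _root_.Matrix.one_apply_eq, _root_.mul_one, Nat.reduceAdd, _root_.Fin.succ_zero_eq_one, _root_.ne_eq, _root_.zero_ne_one, _root_.not_false_eq_true, _root_.Matrix.one_apply_ne, _root_.MulZeroClass.mul_zero, _root_.Fin.succ_ne_zero, _root_.and_true, _root_.true_and]) <;> (repeat' with_reducible apply And.intro)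
    linear_combination -hs
  have hτ : (p + s) ^ 2 = 1 := by
    by_contra hcon
    have h0 : (p + s) ^ 2 - 1 ≠ 0 := sub_ne_zero.2 hcon
    exact hsc ((mul_eq_zero.1 e1).resolve_left h0) ((mul_eq_zero.1 e2).resolve_left h0)
      ((mul_eq_zero.1 e3).resolve_left h0)
  -- the element of order 5
  obtain ⟨ε, hε, hps⟩ : ∃ ε : F, ε ^ 2 = 1 ∧ p + s = -ε := ⟨-(p + s), by rw [neg_pow_two, hτ], by ring⟩
  let Y : _root_.Matrix.SpecialLinearGroup (Fin 2) F := ⟨!![10 + 15 * ε * p, 15 * ε * q; 15 * ε * r, 10 + 15 * ε * s], by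
    rw [Matrix.det_fin_two]
    simp
    linear_combination 225 * ε ^ 2 * hdet + 150 * ε * hps + 75 * hε + 6 * h29⟩
  have hYv : Y.1 = !![10 + 15 * ε * p, 15 * ε * q; 15 * ε * r, 10 + 15 * ε * s] := rfl
  have c2 : Y.1 * Y.1 = (5 : F) • Y.1 - 1 := by
    rw [hYv]
    ext i j
    fin_cases i <;> fin_cases j <;> simp only [_root_.Fin.zero_eta, _root_.Fin.isValue, _root_.Matrix.cons_mul, _root_.Nat.succ_eq_add_one, _root_.Nat.reduceAdd, _root_.Matrix.vecMul_cons, _root_.Matrix.head_cons, _root_.Matrix.smul_cons, _root_.smul_eq_mul, _root_.Matrix.smul_empty, _root_.Matrix.tail_cons, _root_.Matrix.empty_vecMul, _root_.add_zero, _root_.Matrix.add_cons, _root_.Matrix.empty_add_empty, _root_.Matrix.empty_mul, _root_.Equiv.symm_apply_apply, _root_.Matrix.of_apply, _root_.Matrix.cons_val', _root_.Matrix.cons_val_zero, _root_.Matrix.cons_val_fin_one, _root_.Matrix.smul_of, _root_.Matrix.sub_apply, _root_.Matrix.one_apply_eq, _root_.Fin.mk_one, _root_.Matrix.cons_val_one,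 _root_.ne_eq, _root_.zero_ne_one, _root_.not_false_eq_true, _root_.Matrix.one_apply_ne, _root_.sub_zero, _root_.one_ne_zero]
    · linear_combination 15 * ε * (10 + 15 * ε * p) * hps - 15 * (10 + 15 * ε * p) * hε - 225 * ε ^ 2 * hdet -
        150 * ε * hps - 75 * hε - 6 * h29
    · linear_combination 15 * ε * (15 * ε * q) * hps - 15 * (15 * ε * q) * hε
    · linear_combination 15 * ε * (15 * ε * r) * hps - 15 * (15 * ε * r) * hε
    · linear_combination 15 * ε * (10 + 15 * ε * s) * hps - 15 * (10 + 15 * ε * s) * hε - 225 * ε ^ 2 * hdet -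
        150 * ε * hps - 75 * hε - 6 * h29
  have c3 : Y.1 * Y.1 * Y.1 = (24 : F) • Y.1 - (5 : F) • 1 := by
    rw [c2, sub_mul, smul_mul_assoc, c2, one_mul]
    module
  have c5 : Y.1 * Y.1 * Y.1 * (Y.1 * Y.1) = (551 : F) • Y.1 - (115 : F) • 1 := by
    rw [c3, c2, mul_sub, mul_smul_comm, sub_mul, smul_mul_assoc, c2, smul_mul_assoc, one_mul, mul_one]
    module
  have hY5 : Y ^ 5 = 1 := by
    have h1 : Y ^ 5 = Y * Y * Y * (Y * Y) := by simp only [pow_succ, pow_zero, one_mul, mul_assoc]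
    rw [h1]
    apply Subtype.ext
    rw [val_mul, val_mul, val_mul, c5]
    have h2 : (551 : F) = 0 := by linear_combination 19 * h29
    have h3 : (115 : F) = -1 := by linear_combination 4 * h29
    rw [h2, h3, zero_smul, neg_smul, one_smul, zero_sub, neg_neg]
    rfl
  refine ⟨pr Y, ?_, ?_⟩
  · have h5 : Fact (Nat.Prime 5) := ⟨by norm_num⟩
    refine orderOf_eq_prime (by rw [← map_pow, hY5, map_one]) ?_
    intro h
    obtain ⟨k, hk⟩ := exists_smul_of_pr_eq (x := 1) (y := Y) (by rw [h, map_one])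
    have hk' : Y.1 = k • (1 : Matrix (Fin 2) (Fin 2) F) := hk
    rw [hYv] at hk'
    have h15 : (15 : F) ≠ 0 := by
      have := hne 15 (by norm_num)
      exact_mod_cast this
    have hε0 : ε ≠ 0 := by
      rintro rfl
      simp at hε
    have h15ε : 15 * ε ≠ 0 := mul_ne_zero h15 hε0
    refine hsc ?_ ?_ ?_
    · have h1 : 15 * ε * q = (k • (1 : Matrix (Fin 2) (Fin 2) F)) 0 1 := congrFun (congrFun hk' 0) 1
      rw [Matrix.smul_apply, Matrix.one_apply_ne (by decide), smul_zero] at h1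
      exact (mul_eq_zero.1 h1).resolve_left h15ε
    · have h1 : 15 * ε * r = (k • (1 : Matrix (Fin 2) (Fin 2) F)) 1 0 := congrFun (congrFun hk' 1) 0
      rw [Matrix.smul_apply, Matrix.one_apply_ne (by decide), smul_zero] at h1
      exact (mul_eq_zero.1 h1).resolve_left h15ε
    · have h1 := congrFun (congrFun hk' 0) 0
      have h2 := congrFun (congrFun hk' 1) 1
      simp only [_root_.Fin.isValue, _root_.Matrix.of_apply, _root_.Matrix.cons_val', _root_.Matrix.cons_val_zero, _root_.Matrix.cons_val_fin_one, _root_.Matrix.smul_apply, _root_.Matrix.one_apply_eq, _root_.smul_eq_mul, _root_.mul_one, _root_.Matrix.cons_val_one] at h1 h2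
      exact (mul_eq_zero.1 (by linear_combination h1 - h2 : 15 * ε * (p - s) = 0)).resolve_left h15ε
  · rw [← map_mul, ← map_mul]
    congr 1
    apply Subtype.ext
    rw [val_mul, val_mul, hYv, hM]
    ext i j
    (revert i j; simp only [_root_.Fin.forall_fin_succ, _root_.Matrix.cons_mul, _root_.Nat.succ_eq_add_one, Nat.reduceAdd, _root_.Matrix.vecMul_cons, _root_.Matrix.head_cons, _root_.Matrix.smul_cons, _root_.smul_eq_mul, _root_.Matrix.smul_empty, _root_.Matrix.tail_cons, _root_.Matrix.empty_vecMul, _root_.add_zero, _root_.Matrix.add_cons, _root_.Matrix.empty_add_empty, _root_.Matrix.empty_mul, _root_.Equiv.symm_apply_apply, _root_.Matrix.of_apply, _root_.Matrix.cons_val', _root_.Matrix.cons_val_fin_one, Fin.isValue, _root_.Matrix.cons_val_zero, _root_.Matrix.cons_val_succ, _root_.forall_const]) <;> (repeat' with_reducible apply And.intro) <;> ring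

end PSL

section Norm

open Subgroup Cfsg.Agent.OrdDiv Cfsg.Agent.H257.El Cfsg.Agent.H424.Spr Cfsg.Agent.H609.TH

/-- the primes -/
def lF : List (ℕ × ℕ) := [(2, 21), (3, 16), (5, 2), (7, 3), (11, 1), (13, 1), (17, 1), (23, 1), (29, 1)]

theorem chkF : chkN 1255205709190661721292800 lF 29 = true := by decide +kernel
theorem okF : okAll lF 29 = true := by decide +kernel
theorem survF : ((surv 1255205709190661721292800 lF 29 []).all fun g => g = .psl 2 29) = true := by decide +kernel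

theorem survF' : ∀ g ∈ surv 1255205709190661721292800 lF 29 [], g = Grp.psl 2 29 := by
  intro g hg
  have h1 := List.all_eq_true.1 survF g hg
  simpa using h1

/-- a normaliser which is not bigger -/
theorem norm_le_ltwo {T : Type*} [Group T] [Finite T] (hn : Nat.card T = 1255205709190661721292800)
    (hsc : Cfsg.Agent.H537.Cop.SC 29 T) {s : T} (hs : orderOf s = 29) {N : Subgroup T} (h : IsLTwo 29 s N) :
    normalizer (N : Set T) ≤ N := by
  have hr : Nat.Prime 29 := by norm_num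
  have hr' : Fact (Nat.Prime 29) := ⟨hr⟩
  have h2 : ¬ 29 ^ 2 ∣ Nat.card T := by rw [hn]; norm_num
  obtain ⟨hsN, F, _, _, hF, ⟨e⟩⟩ := h
  have hcN : Nat.card N = 12180 := by
    have h3 := Cfsg.Agent.ClassicalGeometry.PSL2Basic.card_PSL2_odd (F := F) (by rw [hF]; decide)
    rw [← Nat.card_congr e.toEquiv, hF] at h3
    omega
  have hBc := (card_norm_mod hr h2 (by rw [hn]; norm_num) (hsc s hs)).1
  have hNB := card_norm_inf hr h2 hsc hs hsN (by rw [hcN]; norm_num)
  rw [hn] at hBc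
  rw [hcN] at hNB
  have hB : normalizer ((zpowers s : Subgroup T) : Set T) ≤ N := by
    have h3 : (normalizer ((zpowers s : Subgroup T) : Set T) ⊓ N : Subgroup T) =
        normalizer ((zpowers s : Subgroup T) : Set T) := eq_of_le_of_card_ge inf_le_left (by
      rw [hBc, hNB])
    rw [← h3]
    exact inf_le_right
  intro k hk
  have h3 : k * s * k⁻¹ ∈ N := (mem_normalizer_iff.1 hk s).1 hsN
  have ho : orderOf (k * s * k⁻¹) = 29 := by
    rw [← hs]
    exact orderOf_injective (MulAut.conj k).toMonoidHom (MulAut.conj k).injective s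
  obtain ⟨m, hm⟩ := conj_of_cyclic (G := N) (s := 29)
    (fun S => cyclic_of_sq (fun h => h2 (h.trans (card_subgroup_dvd_card _))) S)
    (x := ⟨s, hsN⟩) (y := ⟨k * s * k⁻¹, h3⟩) (by rw [Subgroup.orderOf_mk, hs]) (by rw [Subgroup.orderOf_mk, ho])
  have h4 : (m * k : T) * s * (m * k : T)⁻¹ ∈ zpowers s := by
    obtain ⟨j, hj⟩ := mem_zpowers_iff.1 hm
    refine mem_zpowers_iff.2 ⟨j, ?_⟩
    have h5 : s ^ j = m * (k * s * k⁻¹) * (m : T)⁻¹ := congrArg Subtype.val hj
    rw [h5]
    group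
  have h6 : (m * k : T) ∈ N := by
    apply hB
    have h6 : (zpowers s).map (MulAut.conj (m * k : T)).toMonoidHom = zpowers s := by
      refine eq_of_le_of_card_ge ?_ (by rw [card_map_of_injective (MulAut.conj (m * k : T)).injective])
      rw [MonoidHom.map_zpowers, zpowers_le]
      exact h4
    rw [mem_normalizer_iff]
    intro z
    constructor
    · intro hz
      rw [← h6]
      exact ⟨z, hz, rfl⟩
    · intro hz
      rw [← h6] at hz
      obtain ⟨w, hw, hwz⟩ := hz
      have : w = z := (MulAut.conj (m * k : T)).injective hwz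
      rwa [← this]
  have h7 := mul_mem (inv_mem m.2) h6
  rwa [inv_mul_cancel_left] at h7

end Norm

section Cents

open Subgroup Cfsg Cfsg.Agent.R08 Cfsg.Agent.R08.FiTwentyFour
open Cfsg.Agent.H840.Lk (card_conj)
open Cfsg.Agent.H833.Out24 (Tri3)
open Cfsg.Spor (Fi24)

/-- the order of the centralizer in `Fi24'` -/
noncomputable def ct (g : Fi24) : ℕ := Nat.card (commutator Fi24 ⊓ centralizer ({g} : Set Fi24) : Subgroup Fi24)

/-- any two transpositions are conjugate under `Fi24'` -/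
theorem trans1 {a b : Fi24} (ha : a ∈ L) (hb : b ∈ L) : ∃ g ∈ commutator Fi24, g * a * g⁻¹ = b := by
  have ex : ∀ {a : Fi24}, a ∈ L → ∃ c ∈ L, c ≠ a ∧ Commute c a := by
    intro a ha
    obtain ⟨c, h1, h2, h3⟩ : {c | c ∈ L ∧ c ≠ a ∧ Commute c a}.Nonempty :=
      Set.nonempty_of_ncard_ne_zero (by rw [ncard_commuting ha]; norm_num)
    exact ⟨c, h1, h2, h3⟩
  obtain ⟨c, hc, hca, hcc⟩ := ex ha
  obtain ⟨d, hd, hdb, hdc⟩ := ex hb
  obtain ⟨g, hg, h1, -⟩ := FiTwentyFour.trans2 ha hc hb hd hca.symm hcc.symm hdb.symm hdc.symm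
  exact ⟨g, hg, h1⟩

/-- the centralizer of a transposition -/
theorem ct_one {a : Fi24} (ha : a ∈ L) : ct a = 4089470473293004800 := by
  have := finite_Fi24
  have h1 := card_conj (_root_.commutator Fi24) a
  have h2 : ({x | ∃ y ∈ commutator Fi24, y * a * y⁻¹ = x} : Set Fi24) = L := by
    ext x
    constructor
    · rintro ⟨y, -, rfl⟩
      exact FiTwentyFour.conj ha y
    · intro hx
      exact trans1 ha hx
  rw [h2, ncard_L, card_commutator] at h1
  unfold ct
  omega

/-- two commuting transpositions -/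
theorem ct_two {a b : Fi24} (ha : a ∈ L) (hb : b ∈ L) (hne : a ≠ b) (hab : Commute a b) :
    Nat.card (commutator Fi24 ⊓ centralizer ({a} : Set Fi24) ⊓ centralizer ({b} : Set Fi24) : Subgroup Fi24) =
      129123503308800 := by
  have := finite_Fi24
  have h1 := card_conj (_root_.commutator Fi24 ⊓ centralizer ({a} : Set Fi24)) b
  have h2 : ({x | ∃ y ∈ commutator Fi24 ⊓ centralizer ({a} : Set Fi24), y * b * y⁻¹ = x} : Set Fi24) =
      {c | c ∈ L ∧ c ≠ a ∧ Commute c a} := by
    ext x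
    constructor
    · rintro ⟨y, hy, rfl⟩
      have hya : y * a * y⁻¹ = a := mul_inv_eq_iff_eq_mul.2 (mem_centralizer_singleton_iff.1 hy.2)
      have h3 : Commute (y * b * y⁻¹) (y * a * y⁻¹) := TetBig.conj_comm hab.symm
      have h4 : y * b * y⁻¹ ≠ y * a * y⁻¹ := TetBig.conj_ne hne.symm
      rw [hya] at h3 h4
      exact ⟨FiTwentyFour.conj hb y, h4, h3⟩
    · rintro ⟨hx, hxa, hxc⟩
      obtain ⟨g, hg, h3, h4⟩ := FiTwentyFour.trans2 ha hb ha hx hne hab hxa.symm hxc.symm
      exact ⟨g, ⟨hg, mem_centralizer_singleton_iff.2 (mul_inv_eq_iff_eq_mul.1 h3)⟩, h4⟩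
  rw [h2, ncard_commuting ha] at h1
  have h3 := ct_one ha
  unfold ct at h3
  rw [h3] at h1
  omega

/-- a fourth transposition -/
theorem exists_four {a b c : Fi24} (h : Tri3 a b c) :
    ∃ d ∈ L, d ≠ a ∧ d ≠ b ∧ d ≠ c ∧ Commute d a ∧ Commute d b ∧ Commute d c := by
  have h1 := TetBigInst.hyp.n3 a h.ha b h.hb c h.hc h.nab h.nac h.nbc h.ab h.ac h.bc
  have h2 : {d | d ∈ L ∧ d ≠ a ∧ d ≠ b ∧ d ≠ c ∧ Commute d a ∧ Commute d b ∧ Commute d c}.Nonempty := by
    apply Set.nonempty_of_ncard_ne_zero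
    rw [h1]
    norm_num
  obtain ⟨d, hd⟩ := h2
  exact ⟨d, hd⟩

/-- three commuting transpositions -/
theorem ct_three {a b c : Fi24} (h : Tri3 a b c) :
    Nat.card (commutator Fi24 ⊓ centralizer ({a} : Set Fi24) ⊓ centralizer ({b} : Set Fi24) ⊓
      centralizer ({c} : Set Fi24) : Subgroup Fi24) = 36787322880 := by
  have := finite_Fi24
  have h1 := card_conj (_root_.commutator Fi24 ⊓ centralizer ({a} : Set Fi24) ⊓ centralizer ({b} : Set Fi24)) c
  have h2 : ({x | ∃ y ∈ commutator Fi24 ⊓ centralizer ({a} : Set Fi24) ⊓ centralizer ({b} : Set Fi24),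
      y * c * y⁻¹ = x} : Set Fi24) = {c | c ∈ L ∧ c ≠ a ∧ c ≠ b ∧ Commute c a ∧ Commute c b} := by
    ext x
    constructor
    · rintro ⟨y, hy, rfl⟩
      have hya : y * a * y⁻¹ = a := mul_inv_eq_iff_eq_mul.2 (mem_centralizer_singleton_iff.1 hy.1.2)
      have hyb : y * b * y⁻¹ = b := mul_inv_eq_iff_eq_mul.2 (mem_centralizer_singleton_iff.1 hy.2)
      have h3 : Commute (y * c * y⁻¹) (y * a * y⁻¹) := TetBig.conj_comm h.ac.symm
      have h4 : y * c * y⁻¹ ≠ y * a * y⁻¹ := TetBig.conj_ne h.nac.symm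
      have h5 : Commute (y * c * y⁻¹) (y * b * y⁻¹) := TetBig.conj_comm h.bc.symm
      have h6 : y * c * y⁻¹ ≠ y * b * y⁻¹ := TetBig.conj_ne h.nbc.symm
      rw [hya] at h3 h4
      rw [hyb] at h5 h6
      exact ⟨FiTwentyFour.conj h.hc y, h4, h6, h3, h5⟩
    · rintro ⟨hx, hxa, hxb, hca, hcb⟩
      have h' : Tri3 a b x := ⟨h.ha, h.hb, hx, h.ab, hca.symm, hcb.symm, h.nab, hxa.symm, hxb.symm⟩
      obtain ⟨d, hd, d1, d2, d3, d4, d5, d6⟩ := exists_four h
      obtain ⟨e, he, e1, e2, e3, e4, e5, e6⟩ := exists_four h'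
      obtain ⟨g, hg, g1, g2, g3, -⟩ := TetBigInst.hyp.trans4 a h.ha b h.hb h.nab h.ab c h.hc d hd x hx e he
        h.nac.symm h.nbc.symm d1 d2 hxa hxb e1 e2 d3.symm e3.symm h.ac.symm h.bc.symm d4 d5 hca hcb e4 e5 d6.symm e6.symm
      exact ⟨g, ⟨⟨hg, mem_centralizer_singleton_iff.2 (mul_inv_eq_iff_eq_mul.1 g1)⟩,
        mem_centralizer_singleton_iff.2 (mul_inv_eq_iff_eq_mul.1 g2)⟩, g3⟩
  rw [h2, TetBigInst.hyp.n2 a h.ha b h.hb h.nab h.ab, ct_two h.ha h.hb h.nab h.ab] at h1
  omega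

/-- a set with two elements -/
theorem ncard_two {S : Set Fi24} {a b : Fi24} (h : ∀ x ∈ S, x = a ∨ x = b) (ha : a ∈ S) : S.ncard = 1 ∨ S.ncard = 2 := by
  have h1 : S ⊆ {a, b} := h
  have hf : ({a, b} : Set Fi24).Finite := Set.toFinite _
  have h2 := Set.ncard_le_ncard h1 hf
  have h3 : ({a, b} : Set Fi24).ncard ≤ 2 := by
    have h5 := Set.ncard_insert_le a ({b} : Set Fi24)
    rwa [Set.ncard_singleton] at h5
  have h4 : 0 < S.ncard := (Set.ncard_pos (hf.subset h1)).2 ⟨a, ha⟩
  omega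

/-- the product of two commuting transpositions -/
theorem ct_pair {a b : Fi24} (ha : a ∈ L) (hb : b ∈ L) (hne : a ≠ b) (hab : Commute a b) :
    ct (a * b) ∣ 258247006617600 := by
  have := finite_Fi24
  have h1 := card_conj (_root_.commutator Fi24 ⊓ centralizer ({a * b} : Set Fi24)) a
  have h2 : (commutator Fi24 ⊓ centralizer ({a * b} : Set Fi24) ⊓ centralizer ({a} : Set Fi24) : Subgroup Fi24) =
      commutator Fi24 ⊓ centralizer ({a} : Set Fi24) ⊓ centralizer ({b} : Set Fi24) := by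
    ext x
    simp only [mem_inf, mem_centralizer_singleton_iff]
    constructor
    · rintro ⟨⟨h3, h4⟩, h5⟩
      refine ⟨⟨h3, h5⟩, ?_⟩
      have h6 : a * (x * b) = a * (b * x) := by
        calc a * (x * b) = x * a * b := by rw [h5, mul_assoc]
          _ = x * (a * b) := mul_assoc _ _ _
          _ = a * b * x := h4
          _ = _ := mul_assoc _ _ _
      exact mul_left_cancel h6
    · rintro ⟨⟨h3, h4⟩, h5⟩
      refine ⟨⟨h3, ?_⟩, h4⟩
      rw [← mul_assoc, h4, mul_assoc, h5, ← mul_assoc]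
  rw [h2, ct_two ha hb hne hab] at h1
  have h3 : ∀ x ∈ ({x | ∃ y ∈ _root_.commutator Fi24 ⊓ centralizer ({a * b} : Set Fi24), y * a * y⁻¹ = x} : Set Fi24),
      x = a ∨ x = b := by
    rintro x ⟨y, hy, rfl⟩
    rcases OddHalf.D4.Spor.FiTF.pair_fix ha hb hab hne (g := y)
      (mul_inv_eq_iff_eq_mul.2 (mem_centralizer_singleton_iff.1 hy.2)) with h4 | h4
    · exact Or.inl h4.1
    · exact Or.inr h4.1
  unfold ct
  rcases ncard_two h3 ⟨1, one_mem _, by group⟩ with h4 | h4
  · rw [h1, h4]; norm_num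
  · rw [h1, h4]

/-- the involutions of `Fi24'` -/
theorem ct_invol {z : Fi24} (hz : orderOf z = 2) (hzK : z ∈ commutator Fi24) :
    ct z ∣ 258247006617600 ∨ ct z = 160526499840 := by
  rcases CTwoTab.FiTF.classes ⟨z, hzK⟩ (by rw [Subgroup.orderOf_mk, hz]) with ⟨a, b, P, h1⟩ | ⟨g, hg⟩
  · left
    have h2 : z = a * b := h1
    rw [h2]
    exact ct_pair P.ha P.hb P.ne P.ab
  · right
    have h1 : ct z = Nat.card (centralizer ({(⟨z, hzK⟩ : Spor.Fi24')} : Set Spor.Fi24')) :=
      (H161.Rec.FiTF.card_cent_sub (commutator Fi24) ⟨z, hzK⟩).symm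
    rw [h1, hg, H187.FiOdd.card_cent_conj, H701.card_z0]

/-- the product of three commuting transpositions -/
theorem ct_tri {a b c : Fi24} (h : Tri3 a b c) : ct (a * b * c) ≤ 331085905920 := by
  have := finite_Fi24
  have key : ∀ {k d : Fi24}, Commute k (a * b * c) → (d = a ∨ d = b ∨ d = c) →
      (k * d * k⁻¹ = a ∨ k * d * k⁻¹ = b ∨ k * d * k⁻¹ = c) := by
    intro k d hk hd
    have hab : Commute (k * a * k⁻¹) (k * b * k⁻¹) := TetBig.conj_comm h.ab
    have hac : Commute (k * a * k⁻¹) (k * c * k⁻¹) := TetBig.conj_comm h.ac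
    have hbc : Commute (k * b * k⁻¹) (k * c * k⁻¹) := TetBig.conj_comm h.bc
    have nab : k * a * k⁻¹ ≠ k * b * k⁻¹ := TetBig.conj_ne h.nab
    have nac : k * a * k⁻¹ ≠ k * c * k⁻¹ := TetBig.conj_ne h.nac
    have nbc : k * b * k⁻¹ ≠ k * c * k⁻¹ := TetBig.conj_ne h.nbc
    have ma := FiTwentyFour.conj h.ha k
    have mb := FiTwentyFour.conj h.hb k
    have mc := FiTwentyFour.conj h.hc k
    have tr := TetFi24A.tr
    have e : a * b * c = k * a * k⁻¹ * (k * b * k⁻¹) * (k * c * k⁻¹) := by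
      have h1 : k * (a * b * c) = a * b * c * k := hk.eq
      calc a * b * c = a * b * c * k * k⁻¹ := by group
        _ = k * (a * b * c) * k⁻¹ := by rw [h1]
        _ = _ := by group
    have e2 : a * b * c = k * b * k⁻¹ * (k * a * k⁻¹) * (k * c * k⁻¹) := by rw [← hab.eq]; exact e
    have e3 : a * b * c = k * c * k⁻¹ * (k * a * k⁻¹) * (k * b * k⁻¹) := by
      have h1 : Commute (k * a * k⁻¹ * (k * b * k⁻¹)) (k * c * k⁻¹) := hac.mul_left hbc
      exact e.trans (h1.eq.trans (mul_assoc _ _ _).symm)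
    rcases hd with rfl | rfl | rfl
    · exact TetBasic.tri_mem tr h.ha h.hb h.hc ma mb mc h.ab h.ac h.bc h.nab h.nac h.nbc hab hac hbc nab nac nbc e
    · exact TetBasic.tri_mem tr h.ha h.hb h.hc mb ma mc h.ab h.ac h.bc h.nab h.nac h.nbc hab.symm hbc hac nab.symm
        nbc nac e2
    · exact TetBasic.tri_mem tr h.ha h.hb h.hc mc ma mb h.ab h.ac h.bc h.nab h.nac h.nbc hac.symm hbc.symm hab
        nac.symm nbc.symm nab e3
  have orb : ∀ (Y : Subgroup Fi24), Y ≤ centralizer ({a * b * c} : Set Fi24) → ∀ d : Fi24, (d = a ∨ d = b ∨ d = c) →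
      Nat.card ↥Y ≤ 3 * Nat.card ↥(Y ⊓ centralizer ({d} : Set Fi24)) := by
    intro Y hY d hd
    rw [card_conj Y d]
    refine Nat.mul_le_mul_right _ ?_
    have h1 : ({x | ∃ y ∈ Y, y * d * y⁻¹ = x} : Set Fi24) ⊆ {a, b, c} := by
      rintro x ⟨y, hy, rfl⟩
      exact key (mem_centralizer_singleton_iff.1 (hY hy)) hd
    refine (Set.ncard_le_ncard h1 (Set.toFinite _)).trans ?_
    refine (Set.ncard_insert_le _ _).trans ?_
    have h5 := Set.ncard_insert_le b ({c} : Set Fi24)
    rw [Set.ncard_singleton] at h5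
    omega
  have h1 := orb (_root_.commutator Fi24 ⊓ centralizer ({a * b * c} : Set Fi24)) inf_le_right a (Or.inl rfl)
  have h2 := orb (commutator Fi24 ⊓ centralizer ({a * b * c} : Set Fi24) ⊓ centralizer ({a} : Set Fi24))
    (inf_le_left.trans inf_le_right) b (Or.inr (Or.inl rfl))
  have h3 : (commutator Fi24 ⊓ centralizer ({a * b * c} : Set Fi24) ⊓ centralizer ({a} : Set Fi24) ⊓
      centralizer ({b} : Set Fi24) : Subgroup Fi24) ≤ commutator Fi24 ⊓ centralizer ({a} : Set Fi24) ⊓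
        centralizer ({b} : Set Fi24) ⊓ centralizer ({c} : Set Fi24) := by
    intro x hx
    have hxa := mem_centralizer_singleton_iff.1 hx.1.2
    have hxb := mem_centralizer_singleton_iff.1 hx.2
    have hxc := mem_centralizer_singleton_iff.1 hx.1.1.2
    refine ⟨⟨⟨hx.1.1.1, hx.1.2⟩, hx.2⟩, mem_centralizer_singleton_iff.2 ?_⟩
    have h4 : x * (a * b) = a * b * x := by rw [← mul_assoc, hxa, mul_assoc, hxb, ← mul_assoc]
    have h6 : a * b * (x * c) = a * b * (c * x) := by
      calc a * b * (x * c) = (x * (a * b)) * c := by rw [h4]; group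
        _ = x * (a * b * c) := by group
        _ = a * b * c * x := hxc
        _ = _ := by group
    exact mul_left_cancel h6
  have h5 : Nat.card ↥(commutator Fi24 ⊓ centralizer ({a * b * c} : Set Fi24) ⊓ centralizer ({a} : Set Fi24) ⊓
      centralizer ({b} : Set Fi24) : Subgroup Fi24) ≤ 36787322880 := by
    rw [← ct_three h]
    exact Nat.le_of_dvd Nat.card_pos (card_dvd_of_le h3)
  unfold ct
  omega

theorem ct_le (g : Fi24) : ct g ≤ Nat.card (centralizer ({g} : Set Fi24)) := by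
  have := finite_Fi24
  exact Nat.le_of_dvd Nat.card_pos (card_dvd_of_le inf_le_right)

/-- conjugate elements -/
theorem ct_conj (h g : Fi24) : ct (h * g * h⁻¹) = ct g := by
  unfold ct
  refine (Nat.card_congr ((MulAut.conj h).toEquiv.subtypeEquiv fun a => ?_)).symm
  show a ∈ commutator Fi24 ⊓ centralizer ({g} : Set Fi24) ↔
    h * a * h⁻¹ ∈ commutator Fi24 ⊓ centralizer ({h * g * h⁻¹} : Set Fi24)
  rw [mem_inf, mem_inf, mem_centralizer_singleton_iff, mem_centralizer_singleton_iff]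
  have hN : (commutator Fi24).Normal := inferInstance
  constructor
  · rintro ⟨h1, h2⟩
    refine ⟨hN.conj_mem a h1 h, ?_⟩
    calc h * a * h⁻¹ * (h * g * h⁻¹) = h * (a * g) * h⁻¹ := by group
      _ = h * (g * a) * h⁻¹ := by rw [h2]
      _ = _ := by group
  · rintro ⟨h1, h2⟩
    have h3 := hN.conj_mem _ h1 h⁻¹
    refine ⟨?_, ?_⟩
    · have h4 : h⁻¹ * (h * a * h⁻¹) * h⁻¹⁻¹ = a := by group
      rwa [h4] at h3
    · have h4 : h * (a * g) * h⁻¹ = h * (g * a) * h⁻¹ := by
        calc h * (a * g) * h⁻¹ = h * a * h⁻¹ * (h * g * h⁻¹) := by group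
          _ = h * g * h⁻¹ * (h * a * h⁻¹) := h2
          _ = _ := by group
      exact mul_left_cancel (mul_right_cancel h4)

/-- the product of two non-commuting transpositions -/
theorem ct_noncomm {a b : Fi24} (ha : a ∈ L) (hb : b ∈ L) (hab : ¬ Commute a b) : ct (a * b) ≤ 11291353735495680 := by
  have := finite_Fi24
  obtain ⟨g, h1, h2⟩ := H840.Lk.noncomm_trans ha hb (H840.Lk.gen_mem .l) (H840.Lk.gen_mem .k) hab H840.Lk.not_comm_lk
  refine (ct_le _).trans ?_
  have h3 : g * (a * b) * g⁻¹ = Fischer.Fi24Rep.gen .l * Fischer.Fi24Rep.gen .k := by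
    rw [← h1, ← h2]; group
  rw [← H187.FiOdd.card_cent_conj g, h3]
  exact (Nat.le_of_dvd (by norm_num) H843.OCSpor.card_cent_lk_dvd).trans (by norm_num)

/-- an element `x` with three commuting transpositions in an orbit -/
theorem ct_orbit {x e₀ e₁ e₂ : Fi24} (h : Tri3 e₀ e₁ e₂) (h1 : x * e₀ * x⁻¹ = e₁) (h2 : x * e₁ * x⁻¹ = e₂) :
    ct x ≤ 11291353735495680 := by
  have := finite_Fi24
  unfold ct
  rw [card_conj (_root_.commutator Fi24 ⊓ centralizer ({x} : Set Fi24)) e₀]
  have h3 : ({y | ∃ k ∈ commutator Fi24 ⊓ centralizer ({x} : Set Fi24), k * e₀ * k⁻¹ = y} : Set Fi24).ncard ≤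
      306936 := by
    rw [← ncard_L]
    refine Set.ncard_le_ncard ?_ (Set.toFinite _)
    rintro y ⟨k, -, rfl⟩
    exact FiTwentyFour.conj h.ha k
  have h4 : (commutator Fi24 ⊓ centralizer ({x} : Set Fi24) ⊓ centralizer ({e₀} : Set Fi24) : Subgroup Fi24) ≤
      commutator Fi24 ⊓ centralizer ({e₀} : Set Fi24) ⊓ centralizer ({e₁} : Set Fi24) ⊓
        centralizer ({e₂} : Set Fi24) := by
    intro k hk
    have hx : Commute k x := mem_centralizer_singleton_iff.1 hk.1.2
    have h0 : Commute k e₀ := mem_centralizer_singleton_iff.1 hk.2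
    have h5 : Commute k e₁ := by
      rw [← h1]
      exact (hx.mul_right h0).mul_right hx.inv_right
    have h6 : Commute k e₂ := by
      rw [← h2]
      exact (hx.mul_right h5).mul_right hx.inv_right
    exact ⟨⟨⟨hk.1.1, hk.2⟩, mem_centralizer_singleton_iff.2 h5⟩, mem_centralizer_singleton_iff.2 h6⟩
  have h5 : Nat.card ↥(commutator Fi24 ⊓ centralizer ({x} : Set Fi24) ⊓ centralizer ({e₀} : Set Fi24) :
      Subgroup Fi24) ≤ 36787322880 := by
    rw [← ct_three h]
    exact Nat.le_of_dvd Nat.card_pos (card_dvd_of_le h4)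
  calc _ ≤ 306936 * 36787322880 := Nat.mul_le_mul h3 h5
    _ = _ := by norm_num

end Cents

section Five

open Subgroup Cfsg Cfsg.Agent.R08 Cfsg.Agent.R08.FiTwentyFour Equiv
open Cfsg.Agent.H833.Out24 (Tri3)
open Cfsg.Agent.H841.Five
open Cfsg.Spor (Fi24)

/-- the images of the elements of order 3 of `S₉` -/
theorem ct_Phi {τ : Perm (Fin 9)} (h3 : τ ^ 3 = 1) (h1 : τ ≠ 1) : ct (Phi τ) ≤ 11291353735495680 := by
  have h3' : ∀ i, τ (τ (τ i)) = i := by
    intro i
    have h2 := DFunLike.congr_fun h3 i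
    rwa [pow_succ, pow_two, Perm.mul_apply, Perm.mul_apply] at h2
  obtain ⟨i₀, hi⟩ : ∃ i, τ i ≠ i := by
    by_contra hcon
    push Not at hcon
    exact h1 (Equiv.ext hcon)
  have cyc : ∀ i, τ i ≠ i → τ (τ i) ≠ i ∧ τ (τ i) ≠ τ i := by
    intro i hi
    refine ⟨fun h => hi ?_, fun h => hi (τ.injective h)⟩
    have h4 := h3' i
    rwa [h] at h4
  obtain ⟨hi1, hi2⟩ := cyc i₀ hi
  have conj : ∀ i j, Phi τ * Phi (swap i j) * (Phi τ)⁻¹ = Phi (swap (τ i) (τ j)) := by
    intro i j
    rw [← map_inv, ← map_mul, ← map_mul, Equiv.mul_swap_eq_swap_mul, mul_inv_cancel_right]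
  by_cases hj : ∃ j, τ j ≠ j ∧ j ≠ i₀ ∧ j ≠ τ i₀ ∧ j ≠ τ (τ i₀)
  · obtain ⟨j₀, hj, n0, n1, n2⟩ := hj
    obtain ⟨hj1, hj2⟩ := cyc j₀ hj
    -- the six points are different
    have m0 : τ j₀ ≠ i₀ := fun h => n2 (by rw [← h, h3'])
    have m1 : τ j₀ ≠ τ i₀ := fun h => n0 (τ.injective h)
    have m2 : τ j₀ ≠ τ (τ i₀) := fun h => n1 (τ.injective h)
    have l0 : τ (τ j₀) ≠ i₀ := fun h => n1 (by rw [← h, h3'])
    have l1 : τ (τ j₀) ≠ τ i₀ := fun h => m0 (τ.injective h)
    have l2 : τ (τ j₀) ≠ τ (τ i₀) := fun h => m1 (τ.injective h)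
    have comm : ∀ {a b c d : Fin 9}, a ≠ c → a ≠ d → b ≠ c → b ≠ d → Commute (Phi (swap a b)) (Phi (swap c d)) := by
      intro a b c d h4 h5 h6 h7
      have h8 : swap a b * swap c d = swap c d * swap a b := by
        rw [Equiv.mul_swap_eq_swap_mul, swap_apply_of_ne_of_ne h4.symm h6.symm, swap_apply_of_ne_of_ne h5.symm h7.symm]
      show _ = _
      rw [← map_mul, ← map_mul, h8]
    have ne : ∀ {a b c d : Fin 9}, a ≠ b → a ≠ c → a ≠ d → Phi (swap a b) ≠ Phi (swap c d) := by
      intro a b c d h4 h5 h6 h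
      have h7 := DFunLike.congr_fun (Phi_injective h) a
      rw [swap_apply_left, swap_apply_of_ne_of_ne h5 h6] at h7
      exact h4 h7.symm
    refine ct_orbit (e₀ := Phi (swap i₀ j₀)) (e₁ := Phi (swap (τ i₀) (τ j₀))) (e₂ := Phi (swap (τ (τ i₀)) (τ (τ j₀))))
      ⟨Phi_swap_mem_L n0.symm, Phi_swap_mem_L m1.symm, Phi_swap_mem_L l2.symm, comm hi.symm m0.symm n1 hj.symm,
        comm hi1.symm l0.symm n2 hj1.symm, comm hi2.symm l1.symm m2 hj2.symm, ne n0.symm hi.symm m0.symm,
        ne n0.symm hi1.symm l0.symm, ne m1.symm hi2.symm l1.symm⟩ (conj _ _) (conj _ _)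
  · push Not at hj
    -- a cycle of length three
    have hτ : τ = swap i₀ (τ i₀) * swap (τ i₀) (τ (τ i₀)) := by
      ext k
      rw [Perm.mul_apply]
      congr 1
      by_cases k0 : k = i₀
      · rw [k0, swap_apply_of_ne_of_ne hi.symm hi1.symm, swap_apply_left]
      by_cases k1 : k = τ i₀
      · rw [k1, swap_apply_left, swap_apply_of_ne_of_ne hi1 hi2]
      by_cases k2 : k = τ (τ i₀)
      · rw [k2, swap_apply_right, swap_apply_right, h3']
      have k3 : τ k = k := by
        by_contra h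
        exact k2 (hj k h k0 k1)
      rw [k3, swap_apply_of_ne_of_ne k1 k2, swap_apply_of_ne_of_ne k0 k1]
    have h4 : Phi τ = Phi (swap i₀ (τ i₀)) * Phi (swap (τ i₀) (τ (τ i₀))) := by
      rw [← map_mul, ← hτ]
    rw [h4]
    refine ct_noncomm (Phi_swap_mem_L hi.symm) (Phi_swap_mem_L hi2.symm) fun h => ?_
    have h5 : Phi (swap i₀ (τ i₀) * swap (τ i₀) (τ (τ i₀))) = Phi (swap (τ i₀) (τ (τ i₀)) * swap i₀ (τ i₀)) := by
      rw [map_mul, map_mul]
      exact h
    have h6 := DFunLike.congr_fun (Phi_injective h5) i₀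
    rw [Perm.mul_apply, Perm.mul_apply, swap_apply_of_ne_of_ne hi.symm hi1.symm, swap_apply_left, swap_apply_left] at h6
    exact hi2 h6.symm

/-- **an element of order 3 which commutes with an element of order 5** -/
theorem ct_three_five {x y : Fi24} (hx : orderOf x = 3) (hy : orderOf y = 5) (hxy : x * y = y * x) :
    ct x ≤ 11291353735495680 := by
  obtain ⟨g, hg⟩ := LThreeFi24.FiveConj.exists_conj_five hy
  set x' := g * x * g⁻¹ with hx'
  have h3 : x ^ 3 = 1 := by rw [← hx, pow_orderOf_eq_one]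
  have h3' : x' ^ 3 = 1 := by rw [hx', conj_pow, h3]; group
  have h1' : x' ≠ 1 := by
    intro h
    have h1 : x = 1 := by
      calc x = g⁻¹ * x' * g := by rw [hx']; group
        _ = 1 := by rw [h]; group
    rw [h1, orderOf_one] at hx
    omega
  have hc : x' * LThreeFi24.SNine.y0 = LThreeFi24.SNine.y0 * x' := by
    rw [← hg, hx']
    calc g * x * g⁻¹ * (g * y * g⁻¹) = g * (x * y) * g⁻¹ := by group
      _ = g * (y * x) * g⁻¹ := by rw [hxy]
      _ = _ := by group
  obtain ⟨i, σ, -, -, h⟩ := exists_of_comm hc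
  have h10 : x' = Phi (σ ^ 10) := by
    have h4 : x' = x' ^ 10 := by
      rw [show 10 = 3 * 3 + 1 by norm_num, pow_succ, pow_mul, h3', one_pow, one_mul]
    rw [h4, h, (comm_y0_pow_Phi i σ).mul_pow, ← pow_mul, map_pow]
    have h5 : LThreeFi24.SNine.y0 ^ (i * 10) = 1 := by
      rw [show i * 10 = 5 * (i * 2) by ring, pow_mul, ← LThreeFi24.FiveConj.orderOf_y0, pow_orderOf_eq_one, one_pow]
    rw [h5, one_mul]
  have h6 : ct x = ct x' := (ct_conj g x).symm
  rw [h6, h10]
  refine ct_Phi (Phi_injective ?_) fun h7 => ?_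
  · rw [map_pow, ← h10, h3', map_one]
  · rw [h7, map_one] at h10
    exact h1' h10

end Five

section Fourteen

open Subgroup Cfsg Cfsg.Agent.R08 Cfsg.Agent.R08.FiTwentyFour
open Cfsg.Spor (Fi24)

theorem not_dvd_ct {z : Fi24} (hz : orderOf z = 2) (hzK : z ∈ commutator Fi24) :
    ¬ 343 ∣ Nat.card (centralizer ({z} : Set Fi24)) := by
  have := finite_Fi24
  intro h
  have h1 : Nat.card (centralizer ({z} : Set Fi24)) ∣ 2 * ct z := by
    have h2 := Subgroup.card_mul_index ((commutator Fi24).subgroupOf (centralizer ({z} : Set Fi24)))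
    have h3 : Nat.card ((commutator Fi24).subgroupOf (centralizer ({z} : Set Fi24))) = ct z := by
      unfold ct
      rw [inf_comm, ← Nat.card_congr (subgroupOfEquivOfLe (inf_le_left :
        centralizer ({z} : Set Fi24) ⊓ commutator Fi24 ≤ centralizer ({z} : Set Fi24))).toEquiv,
        inf_subgroupOf_left]
    have h4 : ((commutator Fi24).subgroupOf (centralizer ({z} : Set Fi24))).index ∣ 2 := by
      rw [← index_commutator]
      exact relIndex_dvd_index_of_normal _ _
    rw [← h2, h3, mul_comm 2]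
    exact mul_dvd_mul_left _ h4
  have h2 : 343 ∣ ct z := by
    have h3 := h.trans h1
    exact (by norm_num : Nat.Coprime 343 2).dvd_of_dvd_mul_left h3
  rcases ct_invol hz hzK with h3 | h3
  · have h4 := h2.trans h3
    revert h4
    norm_num
  · rw [h3] at h2
    revert h2
    norm_num

theorem P_le {G : Type*} [Group G] {p : ℕ} {y c u : G} (h : H842.Heis.Dat p y c u) : h.P ≤ centralizer ({c} : Set G) := by
  intro x hx
  obtain ⟨k, i, j, rfl⟩ := h.mem_P.1 hx
  rw [mem_centralizer_singleton_iff]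
  have hu : Commute u c := h.cu.symm
  have hy : Commute y c := h.cy.symm
  exact (((hu.pow_left k).mul_left (hy.pow_left i)).mul_left ((Commute.refl c).pow_left j)).eq

/-- **the centralizer of an element of order 14** -/
theorem card_cent_fourteen {a : Fi24} (ha : orderOf a = 14) (haK : a ∈ commutator Fi24) :
    Nat.card (centralizer ({a} : Set Fi24)) ≤ 43848 := by
  have hfin := finite_Fi24
  have hw : orderOf (a ^ 2) = 7 := by
    rw [orderOf_pow_of_dvd (by norm_num) (by rw [ha]; norm_num), ha]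
  have hz : orderOf (a ^ 7) = 2 := by
    rw [orderOf_pow_of_dvd (by norm_num) (by rw [ha]; norm_num), ha]
  have le : ∀ k : ℕ, centralizer ({a} : Set Fi24) ≤ centralizer ({a ^ k} : Set Fi24) := by
    intro k x hx
    rw [mem_centralizer_singleton_iff] at hx ⊢
    exact ((show Commute x a from hx).pow_right k).eq
  rcases H187.FiOdd.card_cent_seven hw with ⟨-, h⟩ | ⟨hn, h⟩
  · exact (Nat.le_of_dvd Nat.card_pos (card_dvd_of_le (le 2))).trans (h.trans (by norm_num))
  · obtain ⟨g, hg | hg⟩ := H842.SevenSyl.cases7 (X := zpowers (a ^ 2)) (by rw [Nat.card_zpowers, hw])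
    · exact absurd ⟨g, hg⟩ hn
    have h343 : 343 ∣ Nat.card (centralizer ({a ^ 2} : Set Fi24)) := by
      rw [H187.FiOdd.card_cent_of_map hg]
      have h2 := card_dvd_of_le (P_le H842.SevenSyl.dat)
      rwa [H842.SevenSyl.dat.card_P] at h2
    have h1 : Nat.card (centralizer ({a} : Set Fi24)) * (centralizer ({a} : Set Fi24)).relIndex
        (centralizer ({a ^ 2} : Set Fi24)) = Nat.card (centralizer ({a ^ 2} : Set Fi24)) := by
      have h2 := Subgroup.card_mul_index ((centralizer ({a} : Set Fi24)).subgroupOf (centralizer ({a ^ 2} : Set Fi24)))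
      rwa [Nat.card_congr (subgroupOfEquivOfLe (le 2)).toEquiv] at h2
    have h7 : 7 ∣ (centralizer ({a} : Set Fi24)).relIndex (centralizer ({a ^ 2} : Set Fi24)) := by
      by_contra hcon
      have h2 : Nat.Coprime 343 ((centralizer ({a} : Set Fi24)).relIndex (centralizer ({a ^ 2} : Set Fi24))) := by
        rw [show (343 : ℕ) = 7 ^ 3 by norm_num]
        exact Nat.Coprime.pow_left _ (((by norm_num : Nat.Prime 7).coprime_iff_not_dvd).2 hcon)
      rw [← h1] at h343
      have h3 := h2.dvd_of_dvd_mul_right h343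
      exact not_dvd_ct hz (pow_mem haK 7) (h3.trans (card_dvd_of_le (le 7)))
    obtain ⟨j, hj⟩ := h7
    rw [hj] at h1
    have hj0 : j ≠ 0 := by
      rintro rfl
      rw [mul_zero, mul_zero] at h1
      exact Nat.card_pos.ne h1
    have h2 : Nat.card (centralizer ({a} : Set Fi24)) * 7 ≤ 306936 := by
      refine le_trans ?_ h
      rw [← h1]
      exact Nat.mul_le_mul_left _ (Nat.le_mul_of_pos_right _ (Nat.pos_of_ne_zero hj0))
    omega

end Fourteen

section Main

open Subgroup Cfsg Cfsg.Agent.R08 Cfsg.Agent.R08.FiTwentyFour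
open Cfsg.Agent.OrdDiv Cfsg.Agent.H257.El Cfsg.Agent.H424.Spr Cfsg.Agent.H609.TH
open Cfsg.Agent.H833.Out24 (Tri3 outer_cases)
open Cfsg.Spor (Fi24)

theorem simpleT : IsSimpleGroup Spor.Fi24' := S1698.result.1
theorem cardT : Nat.card Spor.Fi24' = 1255205709190661721292800 := S1698.result.2

/-- the centralizer of `Fi24'` is trivial -/
theorem eq_one_of_comm {g : Fi24} (h : ∀ x ∈ _root_.commutator Fi24, g * x = x * g) : g = 1 := by
  apply KFacts.FiTF.Pts.eq_one_of_comm_L
  intro a ha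
  obtain ⟨b, hb, hba, hbc⟩ : {c | c ∈ L ∧ c ≠ a ∧ Commute c a}.Nonempty :=
    Set.nonempty_of_ncard_ne_zero (by rw [ncard_commuting ha]; norm_num)
  obtain ⟨c, hc, hca, hcb, hcc, hcd⟩ : {c | c ∈ L ∧ c ≠ a ∧ c ≠ b ∧ Commute c a ∧ Commute c b}.Nonempty :=
    Set.nonempty_of_ncard_ne_zero (by rw [TetBigInst.hyp.n2 a ha b hb hba.symm hbc.symm]; norm_num)
  have h1 := OddHalf.D4.Spor.FiTF.pair_fix ha hb hbc.symm hba.symm (g := g)
    (mul_inv_eq_iff_eq_mul.2 (h _ (FiTwentyFour.even ha hb)))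
  have h2 := OddHalf.D4.Spor.FiTF.pair_fix ha hc hcc.symm hca.symm (g := g)
    (mul_inv_eq_iff_eq_mul.2 (h _ (FiTwentyFour.even ha hc)))
  have h3 : g * a * g⁻¹ = a := by
    rcases h1 with h1 | h1
    · exact h1.1
    · rcases h2 with h2 | h2
      · exact h2.1
      · exact absurd (h2.1.symm.trans h1.1) hcb
  exact mul_inv_eq_iff_eq_mul.1 h3

variable {α : MulAut Spor.Fi24'} {g : Fi24}

theorem card_fix (hα : ∀ k : Spor.Fi24', (α k : Fi24) = g * k * g⁻¹) :
    Nat.card {x : Spor.Fi24' // α x = x} = ct g := by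
  have h : ∀ k : Spor.Fi24', α k = k ↔ (k : Fi24) * g = g * k := by
    intro k
    rw [← Subtype.coe_inj, hα, mul_inv_eq_iff_eq_mul]
    exact eq_comm
  refine Nat.card_congr
    { toFun := fun x => ⟨(x.1 : Fi24), x.1.2, mem_centralizer_singleton_iff.2 ((h _).1 x.2)⟩
      invFun := fun x => ⟨⟨x.1, x.2.1⟩, (h _).2 (mem_centralizer_singleton_iff.1 x.2.2)⟩
      left_inv := fun x => rfl
      right_inv := fun x => rfl }

theorem pow_apply (hα : ∀ k : Spor.Fi24', (α k : Fi24) = g * k * g⁻¹) (n : ℕ) (k : Spor.Fi24') :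
    ((α ^ n) k : Fi24) = g ^ n * k * (g ^ n)⁻¹ := by
  induction n with
  | zero => simp
  | succ n ih =>
    rw [pow_succ', MulAut.mul_apply, hα, ih, pow_succ']
    group

/-- the order of `g` -/
theorem order_eq (hα : ∀ k : Spor.Fi24', (α k : Fi24) = g * k * g⁻¹) {p : ℕ} (hp : p.Prime) (ho : orderOf α = p) :
    orderOf g = p := by
  have := Fact.mk hp
  refine orderOf_eq_prime ?_ ?_
  · apply eq_one_of_comm
    intro x hx
    have h1 := pow_apply hα p ⟨x, hx⟩
    rw [← ho, pow_orderOf_eq_one, ho] at h1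
    exact (mul_inv_eq_iff_eq_mul.1 h1.symm)
  · rintro rfl
    have h1 : α = 1 := by
      ext k
      rw [hα]
      simp
    rw [h1, orderOf_one] at ho
    exact hp.one_lt.ne ho

/-- **a transposition leaves no subgroup `L₂(29)` invariant** -/
theorem not_inv (hα : ∀ k : Spor.Fi24', (α k : Fi24) = g * k * g⁻¹) (hg : g ∈ L) {s : Spor.Fi24'}
    (hs : orderOf s = 29) {N : Subgroup Spor.Fi24'} (hN : IsLTwo 29 s N) (hinv : ∀ y ∈ N, α y ∈ N) : False := by
  have hfin : Finite Fi24 := finite_Fi24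
  have hfin' : Finite Spor.Fi24' := inferInstance
  obtain ⟨hsN, F, _, _, hF, ⟨e⟩⟩ := hN
  let f : N →* N := (α.toMonoidHom.comp N.subtype).codRestrict N fun y => hinv y y.2
  have hf : Function.Injective f := by
    intro a b hab
    have h1 : α (a : Spor.Fi24') = α (b : Spor.Fi24') := congrArg Subtype.val hab
    exact Subtype.ext (α.injective h1)
  let β : N ≃* N := MulEquiv.ofBijective f (Finite.injective_iff_bijective.1 hf)
  have hβ : ∀ y : N, ((β y : N) : Spor.Fi24') = α (y : Spor.Fi24') := fun y => rfl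
  have hβ' : ∀ y : N, (((β y : N) : Spor.Fi24') : Fi24) = g * ((y : Spor.Fi24') : Fi24) * g⁻¹ := fun y => by
    rw [hβ, hα]
  have hgg : g * g = 1 := FiTwentyFour.sq hg
  have hgi : g⁻¹ = g := inv_eq_of_mul_eq_one_left hgg
  by_cases h1 : (e.symm.trans β).trans e = 1
  · -- `g` centralizes `N`
    have h2 : β ⟨s, hsN⟩ = ⟨s, hsN⟩ := by
      have h3 := DFunLike.congr_fun h1 (e ⟨s, hsN⟩)
      have h4 : e (β (e.symm (e ⟨s, hsN⟩))) = e ⟨s, hsN⟩ := h3
      rw [e.symm_apply_apply] at h4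
      exact e.injective h4
    have h3 := hβ' ⟨s, hsN⟩
    rw [h2] at h3
    have h4 : (s : Fi24) * g = g * s := by
      calc (s : Fi24) * g = g * s * g⁻¹ * g := by rw [← h3]
        _ = g * s := by group
    have h5 : (s : Fi24) ∈ _root_.commutator Fi24 ⊓ centralizer ({g} : Set Fi24) :=
      ⟨s.2, mem_centralizer_singleton_iff.2 h4⟩
    have h6 := Subgroup.orderOf_dvd_natCard _ h5
    rw [Subgroup.orderOf_coe, hs] at h6
    have h7 := ct_one hg
    unfold ct at h7
    rw [h7] at h6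
    revert h6
    norm_num
  · obtain ⟨y, hy2, hy3⟩ := exists_big hF _ h1
    have h2 : y⁻¹ * ((e.symm.trans β).trans e) y = e ((e.symm y)⁻¹ * β (e.symm y)) := by
      rw [map_mul, map_inv, e.apply_symm_apply]
      rfl
    rw [h2, ← map_pow] at hy2 hy3
    set w : N := e.symm y with hw
    have h3 : (((w⁻¹ * β w : N) : Spor.Fi24') : Fi24) = ((w : Spor.Fi24') : Fi24)⁻¹ * g * ((w : Spor.Fi24') : Fi24) * g := by
      have h4 : (((w⁻¹ * β w : N) : Spor.Fi24') : Fi24) = ((w : Spor.Fi24') : Fi24)⁻¹ * (((β w : N) : Spor.Fi24') : Fi24) :=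
        rfl
      rw [h4, hβ', hgi]
      group
    set a : Fi24 := ((w : Spor.Fi24') : Fi24)⁻¹ * g * ((w : Spor.Fi24') : Fi24) with ha
    have haL : a ∈ L := by
      have := FiTwentyFour.conj hg ((w : Spor.Fi24') : Fi24)⁻¹
      rwa [inv_inv] at this
    have haa : a * a = 1 := FiTwentyFour.sq haL
    have hpow : ∀ n : ℕ, (a * g) ^ n = 1 → e ((w⁻¹ * β w) ^ n) = 1 := by
      intro n hn
      have h4 : (w⁻¹ * β w) ^ n = 1 := by
        apply Subtype.ext
        apply Subtype.ext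
        have h5 : ((((w⁻¹ * β w) ^ n : N) : Spor.Fi24') : Fi24) = (((w⁻¹ * β w : N) : Spor.Fi24') : Fi24) ^ n := by
          rw [Subgroup.coe_pow, Subgroup.coe_pow]
        rw [h5, h3, hn]
        rfl
      rw [h4, map_one]
    rcases FiTwentyFour.three haL hg with h4 | h4
    · apply hy2
      apply hpow
      rw [pow_two]
      calc a * g * (a * g) = a * (g * a) * g := by group
        _ = a * (a * g) * g := by rw [h4.eq]
        _ = (a * a) * (g * g) := by group
        _ = 1 := by rw [haa, hgg, one_mul]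
    · apply hy3
      apply hpow
      rw [pow_succ, pow_two]
      calc a * g * (a * g) * (a * g) = (a * g * a) * (g * a * g) := by group
        _ = (g * a * g) * (g * a * g) := by rw [h4]
        _ = g * a * (g * g) * a * g := by group
        _ = g * (a * a) * g := by rw [hgg, mul_one]; group
        _ = 1 := by rw [haa, mul_one, hgg]

/-- an inner automorphism of order 3 which leaves a subgroup `L₂(29)` invariant -/
theorem ct_of_inv (hα : ∀ k : Spor.Fi24', (α k : Fi24) = g * k * g⁻¹) (hg : orderOf g = 3) {s : Spor.Fi24'}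
    (hs : orderOf s = 29) {N : Subgroup Spor.Fi24'} (hN : IsLTwo 29 s N) (hinv : ∀ y ∈ N, α y ∈ N) :
    ct g ≤ 11291353735495680 := by
  have hfin : Finite Fi24 := finite_Fi24
  have hfin' : Finite Spor.Fi24' := inferInstance
  have hgK : g ∈ _root_.commutator Fi24 := H843.Fi24N.mem_commutator (by rw [hg]; decide)
  have hα' : ∀ k : Spor.Fi24', α k = ⟨g, hgK⟩ * k * (⟨g, hgK⟩ : Spor.Fi24')⁻¹ := fun k => Subtype.ext (hα k)
  have hmem : (⟨g, hgK⟩ : Spor.Fi24') ∈ normalizer (N : Set Spor.Fi24') := by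
    have h1 : N.map (MulAut.conj (⟨g, hgK⟩ : Spor.Fi24')).toMonoidHom = N := by
      refine eq_of_le_of_card_ge ?_ (by rw [card_map_of_injective (MulAut.conj (⟨g, hgK⟩ : Spor.Fi24')).injective])
      rintro _ ⟨y, hy, rfl⟩
      have h2 := hinv y hy
      rw [hα'] at h2
      exact h2
    rw [mem_normalizer_iff]
    intro z
    constructor
    · intro hz
      rw [← h1]
      exact ⟨z, hz, rfl⟩
    · intro hz
      rw [← h1] at hz
      obtain ⟨w, hw, hwz⟩ := hz
      have : w = z := (MulAut.conj (⟨g, hgK⟩ : Spor.Fi24')).injective hwz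
      rwa [← this]
  have hN' := norm_le_ltwo cardT H161.Rec.FiTF.sc29 hs hN hmem
  obtain ⟨-, F, _, _, hF, ⟨e⟩⟩ := hN
  obtain ⟨y, hy, hxy⟩ := exists_five hF (x := e ⟨_, hN'⟩) (by
    rw [MulEquiv.orderOf_eq, Subgroup.orderOf_mk, Subgroup.orderOf_mk, hg])
  refine ct_three_five (y := ((e.symm y : N) : Spor.Fi24')) hg ?_ ?_
  · rw [Subgroup.orderOf_coe, Subgroup.orderOf_coe, MulEquiv.orderOf_eq, hy]
  · have h1 : (⟨_, hN'⟩ : N) * e.symm y = e.symm y * ⟨_, hN'⟩ := by
      apply e.injective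
      rw [map_mul, map_mul, e.apply_symm_apply, hxy]
    exact congrArg (fun w : N => ((w : Spor.Fi24') : Fi24)) h1

/-- **automorphisms of prime order** -/
theorem goodA_fi24 (tab : OrderTable.{0}) (known : Known.{0}) (α : MulAut Spor.Fi24') (hp : (orderOf α).Prime) :
    GoodA α := by
  have hfin : Finite Fi24 := finite_Fi24
  have hfin' : Finite Spor.Fi24' := inferInstance
  have hsim := simpleT
  have hr : Nat.Prime 29 := by norm_num
  obtain ⟨hv, hr3, hrn, h2, hne⟩ := of_chkN chkF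
  have hsc := H161.Rec.FiTF.sc29
  have hfree : Free 29 Spor.Fi24' := free_of_sc cardT hv hr hsc okF
  obtain ⟨g, hα⟩ := KFacts.FiTF.exists_conj α
  have hg := order_eq hα hp rfl
  have hα1 : α ≠ 1 := fun h => by
    rw [h, orderOf_one] at hp
    exact Nat.not_prime_one hp
  -- counting
  have count : ct g ≤ 11291353735495680 → GoodA α := by
    intro hc
    refine goodA_of_ltwo tab known cardT hv hr hr3 hrn h2 hfree hsc survF' (c := 3132) (fun a t ha _ => ?_) α ?_
    · have ha' : orderOf (a : Fi24) = 14 := by rw [Subgroup.orderOf_coe, ha]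
      refine le_trans ?_ ((card_cent_fourteen ha' a.2).trans (by norm_num))
      have h3 : Nat.card (centralizer ({a} : Set Spor.Fi24')) = ct (a : Fi24) :=
        H161.Rec.FiTF.card_cent_sub (_root_.commutator Fi24) a
      rw [h3]
      exact ct_le _
    · rw [card_fix hα]
      refine lt_of_le_of_lt (Nat.mul_le_mul_left _ hc) (by norm_num)
  -- no invariant subgroup
  have noinv : (∀ (s : Spor.Fi24') (N : Subgroup Spor.Fi24'), orderOf s = 29 → IsLTwo 29 s N →
      (∀ y ∈ N, α y ∈ N) → False) → GoodA α := by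
    intro hno
    refine Cfsg.Agent.H299.SprJ3.goodA_of_no_inv tab known cardT hv hr h2 hrn hne hfree α hα1 ?_
    intro s K N hso hK hN hinv
    obtain ⟨x, hx, hgr, -⟩ := hN.real
    rw [survF' x hx] at hgr
    exact hno s N hso ⟨hN.mem, hgr⟩ hinv
  rcases Nat.lt_or_ge (orderOf g) 5 with hlt | hge
  · rw [← hg] at hp
    have h23 : orderOf g = 2 ∨ orderOf g = 3 := by
      interval_cases h3 : orderOf g
      · exact absurd hp (by norm_num)
      · exact absurd hp (by norm_num)
      · exact Or.inl rfl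
      · exact Or.inr rfl
      · exact absurd hp (by norm_num)
    rcases h23 with h3 | h3
    · by_cases hK : g ∈ _root_.commutator Fi24
      · apply count
        rcases ct_invol h3 hK with h4 | h4
        · exact (Nat.le_of_dvd (by norm_num) h4).trans (by norm_num)
        · rw [h4]; norm_num
      · have hgg : g * g = 1 := by rw [← pow_two, ← h3, pow_orderOf_eq_one]
        rcases outer_cases hK hgg with h4 | ⟨a, b, c, h4, rfl⟩
        · exact noinv fun s N hs hN hinv => not_inv hα h4 hs hN hinv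
        · exact count ((ct_tri h4).trans (by norm_num))
    · by_cases hc : ct g ≤ 11291353735495680
      · exact count hc
      · exact noinv fun s N hs hN hinv => hc (ct_of_inv hα h3 hs hN hinv)
  · apply count
    rw [← hg] at hp
    exact (ct_le g).trans ((H187.FiOdd.card_cent_le hp hge rfl).trans (by norm_num))

end Main

/-- **S3938, the row `Fi24'`.** -/
theorem spr_fi24 (known : Cfsg.Agent.H257.El.Known.{0}) {T : Type} [Group T] [Finite T] (h : Cfsg.Spor.IsoFi24' T) :
    Cfsg.Agent.H424.Spr.Spr T := by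
  obtain ⟨e⟩ := h
  refine Cfsg.Agent.H424.Spr.Spr.congr e.symm ?_
  have hfin : Finite Cfsg.Spor.Fi24 := Cfsg.Agent.R08.FiTwentyFour.finite_Fi24
  have hfin' : Finite Cfsg.Spor.Fi24' := Finite.of_equiv T e.toEquiv
  exact Cfsg.Agent.H609.TH.spr_of_prime fun a ha => goodA_fi24 Cfsg.Agent.OrdDiv.table known a ha

end Cfsg.Agent.H305.SprFi24
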